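import Mathlib
import Cfsg.Agent.Lib.ComponentSolvable
import Cfsg.Agent.SignalizersComponents.ComponentNormalize
import Cfsg.Prelude.Def_Local
import Cfsg.Prelude.Def_CaseTheorems
import Cfsg.Agent.Prune
set_option linter.all false
prune_inst 0x7f00000000000000000000000000000000000000000000000000000000000000000000000000000000000000000000000000000000000000000000000000000000000000000000000000000000000000003fffffffffffffffffffffffffffbeffbdffffffff
open scoped Cfsg.Agent.FastGrp

set_option autoImplicit false

/-!
# Quasisimple groups and `F*`: small lemmas
-/

namespace Cfsg.Agent.H831.GenFit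

open Cfsg

variable {C : Type*} [Group C]

/-- A normal quasisimple subgroup containing its centralizer is `F*`. -/
theorem eq_fstar {K : Subgroup C} (hK : K.Normal) (hq : IsQuasisimple K)
    (hc : Subgroup.centralizer (K : Set C) ≤ K) : K = generalizedFittingSubgroup C := by
  have hcomp : IsComponent K := ⟨Subgroup.Normal.isSubnormal hK, hq⟩
  apply le_antisymm
  · exact le_trans (le_sSup hcomp) le_sup_left
  · refine sup_le (sSup_le ?_) (sSup_le ?_)
    · intro M hM
      by_cases h : M = K
      · exact h.le
      · have h1 := Cfsg.Agent.SignalizersComponents.ComponentNormalize.component_comm_of_ne hM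
          hcomp h
        exact (Subgroup.commutator_eq_bot_iff_le_centralizer.1 h1).trans hc
    · rintro N ⟨hN, hnil⟩
      have hs : Group.IsSolvable N := by
        have := hnil
        infer_instance
      have h1 := Cfsg.Agent.Lib.ComponentSolvable.commutator_component_solvable_eq_bot hcomp hs
        (by
          rw [Subgroup.normalizer_eq_top_iff.2 hN]
          exact le_top)
      rw [Subgroup.commutator_comm] at h1
      exact (Subgroup.commutator_eq_bot_iff_le_centralizer.1 h1).trans hc

/-- A perfect central extension of a non-abelian simple group is quasisimple, with the centre as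
the kernel. -/
theorem quasisimple_of_ext {K S : Type*} [Group K] [Group S] [IsSimpleGroup S]
    (hS : Subgroup.center S = ⊥) (π : K →* S) (hπ : Function.Surjective π)
    (hker : π.ker ≤ Subgroup.center K) (hperf : commutator K = ⊤) :
    IsQuasisimple K ∧ Subgroup.center K = π.ker := by
  have hcen : Subgroup.center K = π.ker := by
    apply le_antisymm _ hker
    intro z hz
    rw [MonoidHom.mem_ker]
    have h1 : π z ∈ Subgroup.center S := by
      rw [Subgroup.mem_center_iff]
      intro s
      obtain ⟨k, rfl⟩ := hπ s
      rw [← map_mul, ← map_mul, Subgroup.mem_center_iff.1 hz k]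
    rw [hS] at h1
    exact Subgroup.mem_bot.1 h1
  refine ⟨⟨?_, ?_⟩, hcen⟩
  · exact ⟨hperf⟩
  · have e : K ⧸ Subgroup.center K ≃* S :=
      (QuotientGroup.quotientMulEquivOfEq hcen).trans
        (QuotientGroup.quotientKerEquivOfSurjective π hπ)
    exact e.isSimpleGroup

end Cfsg.Agent.H831.GenFit
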