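import Mathlib
import Cfsg.Agent.TSp.Orders
import Cfsg.Agent.TSp.OrdersT
import Cfsg.Agent.Prune
set_option linter.all false
prune_inst 0x7f00000000000000000000000000000000000000000000000000000000000000000000000000000000000000000000000000000000000000000000000000000000000000000000000000000000000000003fffffffffffffffffffffffffffbeffbdffffffff
open scoped Cfsg.Agent.FastGrp

set_option autoImplicit false
set_option linter.unusedSectionVars false
set_option linter.unusedVariables false

/-!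
# Type `T8`: affine planes have 324 perpendicular points; centralizers are generated by transpositions
-/

namespace Cfsg.Agent.H831.Eight

open Cfsg Cfsg.Agent.SporadicStructure.FischerSpace Cfsg.Agent.ThreeTransPolar.Basic
open Cfsg.Agent.ThreeTransPolar.Lines
open Cfsg.Agent.Fischer160.Inherit hiding Dx
open Cfsg.Agent.Fischer480.Defs hiding FGroup
open Cfsg.Agent.TSp.Basic hiding FGroup
open Cfsg.Agent.TSp.SimpleConn Cfsg.Agent.TSp.Plane Cfsg.Agent.TSp.Count
open Cfsg.Agent.TSp.Perp Cfsg.Agent.TSp.UPlane Cfsg.Agent.TSp.LTrans Cfsg.Agent.TSp.UCount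
open Cfsg.Agent.TSp.CL Cfsg.Agent.TSp.Orders Cfsg.Agent.TSp.OrdersT

universe u

variable {G : Type u} [Group G] {S : Set G}

/-- the numbers of type `T8` -/
structure N8 (E : Set G) : Prop where
  card : E.ncard = 306936
  loc : ∀ x ∈ E, N7 (Loc E x)
  com : ∀ x ∈ E, ∀ a ∈ E, ¬ Commute x a → (Com E x a).ncard = 3240

theorem n8_of_isT8 {E : Set G} (h : IsT8 E) : N8 E :=
  ⟨h.1, fun x hx => n7_of_isT7 (h.2.1 x hx), fun x hx a ha hxa => h.2.2 x hx a ha hxa⟩

section Eight

variable [Finite G] (hS : TSet S) (h : N8 S) {x a : G} (hx : x ∈ S) (ha : a ∈ S)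
  (hxa : ¬ Commute x a)

include hS h hx ha hxa

/-- the number of members of `B` commuting with `d, e` -/
theorem c_self {d : G} (hd : d ∈ XX S x a) :
    {b | b ∈ Bx S x a ∧ (Commute d b ∧ Commute d b)}.ncard = 21840 := by
  obtain ⟨hdS, hdx, hda, hxd, had⟩ := hd
  have e : {b | b ∈ Bx S x a ∧ (Commute d b ∧ Commute d b)} = Bx (Dx S d) x a := by
    ext b
    constructor
    · rintro ⟨⟨h1, h2⟩, h3, -⟩
      refine ⟨⟨h1, ?_, h3⟩, h2⟩
      rintro rfl
      exact h2.1 hxd.symm
    · rintro ⟨⟨h1, -, h3⟩, h2⟩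
      exact ⟨⟨h1, h2⟩, h3, h3⟩
  rw [e]
  have hN := h.loc d hdS
  have h1 := line_count (k := 3510) (μ := 351) (dx_closed hS d) (x := x) (a := a)
    ⟨hx, hdx.symm, hxd.symm⟩ ⟨ha, hda.symm, had.symm⟩ hxa
    (fun y hy => (hN.loc y hy).card)
    (fun y hy z hz hyz => by rw [XX_eq hyz]; exact hN.com y hy z hz hyz)
  have h2 : (Dx S d).ncard = 31671 := hN.card
  omega

theorem c_comm {d e : G} (hd : d ∈ XX S x a) (he : e ∈ XX S x a) (hne : e ≠ d)
    (hde : Commute d e) : {b | b ∈ Bx S x a ∧ (Commute d b ∧ Commute e b)}.ncard = 1680 := by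
  obtain ⟨hdS, hdx, hda, hxd, had⟩ := hd
  obtain ⟨heS, hex, hea, hxe, hae⟩ := he
  have e' : {b | b ∈ Bx S x a ∧ (Commute d b ∧ Commute e b)} = Bx (Dx (Dx S d) e) x a := by
    ext b
    constructor
    · rintro ⟨⟨h1, h2⟩, h3, h4⟩
      refine ⟨⟨⟨h1, ?_, h3⟩, ?_, h4⟩, h2⟩
      · rintro rfl
        exact h2.1 hxd.symm
      · rintro rfl
        exact h2.1 hxe.symm
    · rintro ⟨⟨⟨h1, -, h3⟩, -, h4⟩, h2⟩
      exact ⟨⟨h1, h2⟩, h3, h4⟩
  rw [e']
  have hN := h.loc d hdS
  have hN2 := hN.loc e ⟨heS, hne, hde⟩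
  have h1 := line_count (k := 693) (μ := 126) (dx_closed (dx_closed hS d) e) (x := x) (a := a)
    ⟨⟨hx, hdx.symm, hxd.symm⟩, hex.symm, hxe.symm⟩
    ⟨⟨ha, hda.symm, had.symm⟩, hea.symm, hae.symm⟩ hxa
    (fun y hy => (numbers_six (hN2.loc y hy)).1)
    (fun y hy z hz hyz => by rw [XX_eq hyz]; exact hN2.com y hy z hz hyz)
  have h2 : (Dx (Dx S d) e).ncard = 3510 := hN2.card
  omega

theorem c_ncomm {d e : G} (hd : d ∈ XX S x a) (he : e ∈ XX S x a) (hde : ¬ Commute d e) :
    {b | b ∈ Bx S x a ∧ (Commute d b ∧ Commute e b)}.ncard =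
      2184 + 2 * (XX (XX S d e) x a).ncard := by
  obtain ⟨hdS, hdx, hda, hxd, had⟩ := hd
  obtain ⟨heS, hex, hea, hxe, hae⟩ := he
  have e' : {b | b ∈ Bx S x a ∧ (Commute d b ∧ Commute e b)} = Bx (XX S d e) x a := by
    ext b
    constructor
    · rintro ⟨⟨h1, h2⟩, h3, h4⟩
      refine ⟨⟨h1, ?_, ?_, h3, h4⟩, h2⟩
      · rintro rfl
        exact h2.1 hxd.symm
      · rintro rfl
        exact h2.1 hxe.symm
    · rintro ⟨⟨h1, -, -, h3, h4⟩, h2⟩
      exact ⟨⟨h1, h2⟩, h3, h4⟩
  rw [e']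
  have hT := xx_tset hS d e
  have hxT : x ∈ XX S d e := ⟨hx, hdx.symm, hex.symm, hxd.symm, hxe.symm⟩
  have haT : a ∈ XX S d e := ⟨ha, hda.symm, hea.symm, had.symm, hae.symm⟩
  have hk : ∀ i, (Dx (XX S d e) (ln x a i)).ncard = 351 := by
    intro i
    have hi := ln_mem hT hxT haT i
    generalize ln x a i = y at hi
    obtain ⟨hyS, hyd, hye, hdy, hey⟩ := hi
    have e2 : Dx (XX S d e) y = XX (Dx S y) d e := by
      ext z
      constructor
      · rintro ⟨⟨h1, h2, h3, h4, h5⟩, h6, h7⟩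
        exact ⟨⟨h1, h6, h7⟩, h2, h3, h4, h5⟩
      · rintro ⟨⟨h1, h6, h7⟩, h2, h3, h4, h5⟩
        exact ⟨⟨h1, h2, h3, h4, h5⟩, h6, h7⟩
    rw [e2, XX_eq hde]
    exact (h.loc y hyS).com d ⟨hdS, hyd.symm, hdy.symm⟩ e ⟨heS, hye.symm, hey.symm⟩ hde
  have hμ : ∀ i j, i ≠ j → (XX (XX S d e) (ln x a i) (ln x a j)).ncard =
      (XX (XX S d e) x a).ncard := by
    intro i j hij
    refine congrArg Set.ncard (Set.ext fun z => ?_)
    rw [XX_eq hxa, XX_eq (ln_ncomm hT hxT haT hxa i j hij)]
    -- commuting with two points of the line means commuting with all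
    have hall : ∀ i j : ZMod 3, i ≠ j → Commute (ln x a i) z → Commute (ln x a j) z →
        ∀ k, Commute (ln x a k) z := by
      intro i j hij h1 h2 k
      have h3 : Commute (ln x a (-i - j)) z := by
        rw [← ln_third hT hxT haT hxa i j]
        exact (commute_cj_of h1.symm h2.symm).symm
      rcases zmod_three i j k hij with rfl | rfl | rfl
      · exact h1
      · exact h2
      · exact h3
    constructor
    · rintro ⟨h1, h2, h3⟩
      exact ⟨h1, hall i j hij h2 h3 0, hall i j hij h2 h3 1⟩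
    · rintro ⟨h1, h2, h3⟩
      exact ⟨h1, hall 0 1 (by decide) h2 h3 i, hall 0 1 (by decide) h2 h3 j⟩
  have h1 := line_count' hT hxT haT hxa hk hμ
  have h2 : (XX S d e).ncard = 3240 := by rw [XX_eq hde]; exact h.com d hdS e heS hde
  omega

/-- for fixed `d`, the sum over the `e` not commuting with `d` of the numbers of common
neighbours -/
theorem sum_common {d : G} (hd : d ∈ XX S x a)
    (hfin : {e | e ∈ XX S x a ∧ ¬ Commute d e}.Finite) :
    ∑ e ∈ hfin.toFinset, (XX (XX S d e) x a).ncard = 78624 := by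
  obtain ⟨hdS, hdx, hda, hxd, had⟩ := hd
  have hNd := h.loc d hdS
  set t : Set G := XX (Dx S d) x a with ht
  have htfin : t.Finite := Set.toFinite _
  have h1 := dc hfin htfin (fun e z => Commute e z)
  have e1 : ∀ e ∈ hfin.toFinset, {z | z ∈ t ∧ Commute e z}.ncard =
      (XX (XX S d e) x a).ncard := by
    intro e he
    rw [Set.Finite.mem_toFinset] at he
    obtain ⟨⟨heS, hex, hea, hxe, hae⟩, hde⟩ := he
    refine congrArg Set.ncard (Set.ext fun z => ?_)
    constructor
    · rintro ⟨⟨⟨h1, h2, h3⟩, h4, h5, h6, h7⟩, h8⟩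
      refine ⟨⟨h1, h2, ?_, h3, h8⟩, h4, h5, h6, h7⟩
      rintro rfl
      exact hde h3
    · rintro ⟨⟨h1, h2, -, h3, h8⟩, h4, h5, h6, h7⟩
      exact ⟨⟨⟨h1, h2, h3⟩, h4, h5, h6, h7⟩, h8⟩
  rw [← Finset.sum_congr rfl e1, h1]
  have e2 : ∀ z ∈ htfin.toFinset, {e | e ∈ {e | e ∈ XX S x a ∧ ¬ Commute d e} ∧
      Commute e z}.ncard = 224 := by
    intro z hz
    rw [Set.Finite.mem_toFinset] at hz
    obtain ⟨⟨hzS, hzd, hdz⟩, hzx, hza, hxz, haz⟩ := hz
    have hNz := h.loc z hzS
    have hxz' : x ∈ Dx S z := ⟨hx, hzx.symm, hxz.symm⟩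
    have haz' : a ∈ Dx S z := ⟨ha, hza.symm, haz.symm⟩
    -- `Y` : the 351 common neighbours of `x, a, z`
    have hY : (XX (Dx S z) x a).ncard = 351 := by
      rw [XX_eq hxa]; exact hNz.com x hxz' a haz' hxa
    have hdY : d ∈ XX (Dx S z) x a := ⟨⟨hdS, hzd.symm, hdz.symm⟩, hdx, hda, hxd, had⟩
    have h45 : (XX (Dx (Dx S z) d) x a).ncard = 126 := by
      rw [XX_eq hxa]
      exact (hNz.loc d hdY.1).com x ⟨hxz', hdx.symm, hxd.symm⟩ a
        ⟨haz', hda.symm, had.symm⟩ hxa
    -- split `Y`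
    have hsplit : XX (Dx S z) x a = {e | e ∈ {e | e ∈ XX S x a ∧ ¬ Commute d e} ∧
        Commute e z} ∪ insert d (XX (Dx (Dx S z) d) x a) := by
      ext e
      constructor
      · rintro ⟨⟨h1, h2, h3⟩, h4, h5, h6, h7⟩
        by_cases hde : Commute d e
        · right
          by_cases hed : e = d
          · exact Or.inl hed
          · exact Or.inr ⟨⟨⟨h1, h2, h3⟩, hed, hde⟩, h4, h5, h6, h7⟩
        · left
          exact ⟨⟨⟨h1, h4, h5, h6, h7⟩, hde⟩, h3.symm⟩
      · rintro (⟨⟨⟨h1, h4, h5, h6, h7⟩, hde⟩, h3⟩ | rfl | ⟨⟨⟨h1, h2, h3⟩, hed, hde⟩, h4, h5, h6, h7⟩)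
        · refine ⟨⟨h1, ?_, h3.symm⟩, h4, h5, h6, h7⟩
          rintro rfl
          exact hde hdz
        · exact hdY
        · exact ⟨⟨h1, h2, h3⟩, h4, h5, h6, h7⟩
    have hdisj : Disjoint {e | e ∈ {e | e ∈ XX S x a ∧ ¬ Commute d e} ∧ Commute e z}
        (insert d (XX (Dx (Dx S z) d) x a)) := by
      rw [Set.disjoint_left]
      rintro e ⟨⟨-, hde⟩, -⟩ (rfl | ⟨⟨-, -, h2⟩, -⟩)
      · exact hde (Commute.refl _)
      · exact hde h2
    have hnot : d ∉ XX (Dx (Dx S z) d) x a := fun h1 => h1.1.2.1 rfl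
    have h2 := congrArg Set.ncard hsplit
    rw [Set.ncard_union_eq hdisj (Set.toFinite _) (Set.toFinite _),
      Set.ncard_insert_of_notMem hnot (Set.toFinite _), hY, h45] at h2
    omega
  have h6 : (Com (Dx S d) x a).ncard = 351 :=
    hNd.com x ⟨hx, hdx.symm, hxd.symm⟩ a ⟨ha, hda.symm, had.symm⟩ hxa
  rw [Finset.sum_congr rfl e2, Finset.sum_const, smul_eq_mul, ← Set.ncard_eq_toFinset_card t htfin,
    ht, XX_eq hxa, h6]

/-- the sum over all `e` -/
theorem sum_c {d : G} (hd : d ∈ XX S x a) (hXfin : (XX S x a).Finite) :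
    ∑ e ∈ hXfin.toFinset, {b | b ∈ Bx S x a ∧ (Commute d b ∧ Commute e b)}.ncard = 7076160 := by
  classical
  have hdX := hd
  obtain ⟨hdS, hdx, hda, hxd, had⟩ := hd
  have hNd := h.loc d hdS
  -- three parts of `X`
  have hfin1 : {e | e ∈ XX S x a ∧ ¬ Commute d e}.Finite := Set.toFinite _
  have hfin2 : (XX (Dx S d) x a).Finite := Set.toFinite _
  have hX : hXfin.toFinset = hfin1.toFinset ∪ (insert d hfin2.toFinset) := by
    ext e
    rw [Finset.mem_union, Finset.mem_insert, Set.Finite.mem_toFinset, Set.Finite.mem_toFinset,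
      Set.Finite.mem_toFinset]
    constructor
    · intro he
      by_cases hde : Commute d e
      · right
        by_cases hed : e = d
        · exact Or.inl hed
        · exact Or.inr ⟨⟨he.1, hed, hde⟩, he.2⟩
      · exact Or.inl ⟨he, hde⟩
    · rintro (⟨he, -⟩ | rfl | ⟨⟨h1, -, -⟩, h2⟩)
      · exact he
      · exact hdX
      · exact ⟨h1, h2⟩
  have hdisj : Disjoint hfin1.toFinset (insert d hfin2.toFinset) := by
    rw [Finset.disjoint_left]
    intro e he
    rw [Set.Finite.mem_toFinset] at he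
    rw [Finset.mem_insert, Set.Finite.mem_toFinset]
    rintro (rfl | ⟨⟨-, -, h2⟩, -⟩)
    · exact he.2 (Commute.refl _)
    · exact he.2 h2
  have hnot : d ∉ hfin2.toFinset := by
    rw [Set.Finite.mem_toFinset]
    exact fun h1 => h1.1.2.1 rfl
  have c2 : hfin2.toFinset.card = 351 := by
    rw [← Set.ncard_eq_toFinset_card _ hfin2, XX_eq hxa]
    exact hNd.com x ⟨hx, hdx.symm, hxd.symm⟩ a ⟨ha, hda.symm, had.symm⟩ hxa
  have cX : hXfin.toFinset.card = 3240 := by
    rw [← Set.ncard_eq_toFinset_card _ hXfin, XX_eq hxa]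
    exact h.com x hx a ha hxa
  have c1 : hfin1.toFinset.card = 2888 := by
    have := congrArg Finset.card hX
    rw [Finset.card_union_of_disjoint hdisj, Finset.card_insert_of_notMem hnot, c2, cX] at this
    omega
  rw [hX, Finset.sum_union hdisj, Finset.sum_insert hnot, c_self hS h hx ha hxa hdX]
  have s2 : ∑ e ∈ hfin2.toFinset, {b | b ∈ Bx S x a ∧ (Commute d b ∧ Commute e b)}.ncard =
      351 * 1680 := by
    rw [← c2, ← smul_eq_mul, ← Finset.sum_const]
    apply Finset.sum_congr rfl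
    intro e he
    rw [Set.Finite.mem_toFinset] at he
    exact c_comm hS h hx ha hxa hdX ⟨he.1.1, he.2⟩ he.1.2.1 he.1.2.2
  have s1 : ∑ e ∈ hfin1.toFinset, {b | b ∈ Bx S x a ∧ (Commute d b ∧ Commute e b)}.ncard =
      2888 * 2184 + 2 * 78624 := by
    rw [← sum_common hS h hx ha hxa hdX hfin1, ← c1, ← smul_eq_mul (a := hfin1.toFinset.card),
      ← Finset.sum_const, Finset.mul_sum, ← Finset.sum_add_distrib]
    apply Finset.sum_congr rfl
    intro e he
    rw [Set.Finite.mem_toFinset] at he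
    exact c_ncomm hS h hx ha hxa hdX he.1 he.2
  rw [s2, s1]
  norm_num

/-- **all planes have 324 perpendicular points** -/
theorem eight_N3 {b : G} (hb : b ∈ Bx S x a) : (N3 S x a b).ncard = 324 := by
  classical
  have hXfin : (XX S x a).Finite := Set.toFinite _
  have hBfin : (Bx S x a).Finite := Set.toFinite _
  have hk : ∀ x ∈ S, (Dx S x).ncard = 31671 := fun x hx => (h.loc x hx).card
  have hμ : ∀ x ∈ S, ∀ a ∈ S, ¬ Commute x a → (XX S x a).ncard = 3240 := by
    intro x hx a ha hxa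
    rw [XX_eq hxa]; exact h.com x hx a ha hxa
  have hB : (Bx S x a).ncard = 218400 := by
    have := line_count hS hx ha hxa hk hμ
    rw [h.card] at this
    omega
  have cX : hXfin.toFinset.card = 3240 := by
    rw [← Set.ncard_eq_toFinset_card _ hXfin]; exact hμ x hx a ha hxa
  have cB : hBfin.toFinset.card = 218400 := by
    rw [← Set.ncard_eq_toFinset_card _ hBfin]; exact hB
  have hN : ∀ b ∈ hBfin.toFinset, (N3 S x a b).ncard =
      (hXfin.toFinset.filter (fun d => Commute d b)).card := by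
    intro b hb
    rw [Set.Finite.mem_toFinset] at hb
    rw [← Set.ncard_coe_finset]
    refine congrArg Set.ncard (Set.ext fun d => ?_)
    rw [Finset.mem_coe, Finset.mem_filter, Set.Finite.mem_toFinset]
    constructor
    · rintro ⟨h1, h2, h3, h4⟩
      refine ⟨⟨h1, ?_, ?_, h2.symm, h3.symm⟩, h4⟩
      · rintro rfl; exact hb.2.1 h4.symm
      · rintro rfl; exact hb.2.2.1 h4.symm
    · rintro ⟨⟨h1, -, -, h2, h3⟩, h4⟩
      exact ⟨h1, h2.symm, h3.symm, h4⟩
  -- second moment
  have hC : ∀ d e : G, {b | b ∈ Bx S x a ∧ (Commute d b ∧ Commute e b)}.ncard =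
      (hBfin.toFinset.filter (fun b => Commute d b ∧ Commute e b)).card := by
    intro d e
    rw [← Set.ncard_coe_finset]
    refine congrArg Set.ncard (Set.ext fun b => ?_)
    rw [Finset.mem_coe, Finset.mem_filter, Set.Finite.mem_toFinset]
    exact Iff.rfl
  have S2 : ∑ b ∈ hBfin.toFinset, (hXfin.toFinset.filter (fun d => Commute d b)).card *
      (hXfin.toFinset.filter (fun d => Commute d b)).card = 3240 * 7076160 := by
    have e1 : ∀ b ∈ hBfin.toFinset, (hXfin.toFinset.filter (fun d => Commute d b)).card *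
        (hXfin.toFinset.filter (fun d => Commute d b)).card =
        ∑ d ∈ hXfin.toFinset, ∑ e ∈ hXfin.toFinset,
          if (Commute d b ∧ Commute e b) then 1 else 0 := by
      intro b _
      rw [Finset.card_filter, Finset.sum_mul_sum]
      apply Finset.sum_congr rfl
      intro d _
      apply Finset.sum_congr rfl
      intro e _
      by_cases h1 : Commute d b <;> by_cases h2 : Commute e b <;> simp [h1, h2]
    rw [Finset.sum_congr rfl e1, Finset.sum_comm]
    have e2 : ∀ d ∈ hXfin.toFinset, (∑ b ∈ hBfin.toFinset, ∑ e ∈ hXfin.toFinset,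
        if (Commute d b ∧ Commute e b) then 1 else 0) = 7076160 := by
      intro d hd
      rw [Set.Finite.mem_toFinset] at hd
      rw [Finset.sum_comm, ← sum_c hS h hx ha hxa hd hXfin]
      apply Finset.sum_congr rfl
      intro e _
      rw [hC, Finset.card_filter]
    rw [Finset.sum_congr rfl e2, Finset.sum_const, cX, smul_eq_mul]
  -- first moment
  have S1 : ∑ b ∈ hBfin.toFinset, (hXfin.toFinset.filter (fun d => Commute d b)).card =
      3240 * 21840 := by
    have e1 : ∀ b ∈ hBfin.toFinset, (hXfin.toFinset.filter (fun d => Commute d b)).card =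
        ∑ d ∈ hXfin.toFinset, if Commute d b then 1 else 0 := by
      intro b _
      rw [Finset.card_filter]
    rw [Finset.sum_congr rfl e1, Finset.sum_comm]
    have e2 : ∀ d ∈ hXfin.toFinset, (∑ b ∈ hBfin.toFinset, if Commute d b then 1 else 0) =
        21840 := by
      intro d hd
      rw [Set.Finite.mem_toFinset] at hd
      rw [← c_self hS h hx ha hxa hd, hC, Finset.card_filter]
      apply Finset.sum_congr rfl
      intro b _
      by_cases h1 : Commute d b <;> simp [h1]
    rw [Finset.sum_congr rfl e2, Finset.sum_const, cX, smul_eq_mul]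
  -- variance
  have V : ∑ b ∈ hBfin.toFinset, (((hXfin.toFinset.filter (fun d => Commute d b)).card : ℤ) - 324) ^ 2
      = 0 := by
    have e1 : ∀ b ∈ hBfin.toFinset,
        (((hXfin.toFinset.filter (fun d => Commute d b)).card : ℤ) - 324) ^ 2 =
        ((((hXfin.toFinset.filter (fun d => Commute d b)).card *
          (hXfin.toFinset.filter (fun d => Commute d b)).card : ℕ) : ℤ) -
          648 * (((hXfin.toFinset.filter (fun d => Commute d b)).card : ℕ) : ℤ)) + 104976 := by
      intro b _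
      push_cast
      ring
    rw [Finset.sum_congr rfl e1, Finset.sum_add_distrib, Finset.sum_sub_distrib, ← Finset.mul_sum,
      ← Nat.cast_sum, ← Nat.cast_sum, S1, S2, Finset.sum_const, cB]
    norm_num
  rw [Finset.sum_eq_zero_iff_of_nonneg (fun b _ => sq_nonneg _)] at V
  have hb' : b ∈ hBfin.toFinset := by rwa [Set.Finite.mem_toFinset]
  have h1 := V b hb'
  rw [← hN b hb'] at h1
  have h2 := pow_eq_zero_iff (two_ne_zero) |>.1 h1
  omega

end Eight

theorem eight_perp [Finite G] (hS : TSet S) (h : N8 S) : ∀ p, Pl S p → (perp S p).ncard = 324 := by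
  intro p hp
  rw [perp_eq_N3 hp]
  exact eight_N3 hS h (hp.mem _) (hp.mem _) (hp.ncomm _ _ (by decide)) (Bx_of_pl hp)


/-! ### Transport, thin lines, `Theta` -/

theorem n7_transport {K : Type u} [Group K] {E : Set G} {E' : Set K} (h : CIso E E')
    (h' : N7 E) : N7 E' := by
  have h0 := Fischer480.Transport.ncard_eq h
  obtain ⟨φ, hφ, hc⟩ := Fischer480.Transport.CIso.symm h
  refine ⟨h0.symm.trans h'.card, ?_, ?_⟩
  · intro x hx
    exact n6_transport (Fischer480.Transport.CIso.symm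
      (Fischer480.Transport.loc_cIso hφ hc hx)) (h'.loc _ (hφ.mapsTo hx))
  · intro x hx a ha hxa
    rw [Fischer480.Transport.ncard_eq (Fischer480.Transport.com_cIso hφ hc hx ha)]
    exact h'.com _ (hφ.mapsTo hx) _ (hφ.mapsTo ha) (fun h1 => hxa ((hc x hx a ha).2 h1))

/-- non-commuting members in type `T6` -/
theorem ncomm_N6 [Finite G] {E : Set G} (hE : TSet E) (h : N6 E) {z : G} (hz : z ∈ E) :
    ∃ w ∈ E, ¬ Commute w z := by
  by_contra hcon
  push Not at hcon
  have h1 : E ⊆ insert z (Loc E z) := by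
    intro w hw
    by_cases hwz : w = z
    · exact Or.inl hwz
    · exact Or.inr ⟨hw, hwz, (hcon w hw).symm⟩
  have h2 := Set.ncard_le_ncard h1 (Set.toFinite _)
  have h3 := Set.ncard_insert_le z (Loc E z)
  have h4 : (Loc E z).ncard = 693 := (numbers_six (h.loc z hz)).1
  have h5 := h.card
  omega

theorem perpSub_N7 [Finite G] {E : Set G} (hE : TSet E) (h : N7 E) : PerpSub E := by
  apply perpSub_of_loc
  intro y hy z hz
  exact ncomm_N6 (loc_closed hE y) (h.loc y hy) hz

theorem thin_N8 [Finite G] (hS : TSet S) (h : N8 S) : ThinLines S :=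
  thinLines_of_loc (fun y hy => perpSub_N7 (loc_closed hS y) (h.loc y hy))

theorem theta_N8 {E D : Set G} (FD : FData D) (hED : E ⊆ D) (hE : TSet E) (h : N8 E) :
    Theta E :=
  theta_of_loc (fun x hx a ha hxa => com_nonempty (by norm_num) (h.com x hx a ha hxa))
    (fun y hy => theta_N7 FD (fun z hz => hED hz.1) (loc_closed hE y) (h.loc y hy))

theorem inherit_N8 [Finite G] {D : Set G} (F : FGroup D) (h : N8 D) {x : G} (hx : x ∈ D) :
    FGroup (Eb D x) :=
  inherit F (thin_N8 (tset_of_fdata F.fd) h) hx (odd_central F (by rw [h.card]; norm_num) hx)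

/-! ### Centralizers -/

theorem cl_eight [Finite G] {D : Set G} (F : FGroup D) (h : N8 D) : CLD D := by
  have R := rk_of_FGroup F
  have hT := tset_of_fdata R.fd
  have hθ := theta_N8 R.fd subset_rfl hT h
  refine cl_of_tri F ?_
  intro x a b A
  obtain ⟨p, hp, p0, p1, p2, -⟩ := exists_pl hT A
  have hperp := eight_perp hT h p hp
  obtain ⟨y, hy, hyp⟩ : (perp D p).Nonempty := by
    rw [Set.nonempty_iff_ne_empty]
    intro h1
    rw [h1, Set.ncard_empty] at hperp
    norm_num at hperp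
  have hyx : Commute y x := by rw [← p0]; exact hyp _
  have hya : Commute y a := by rw [← p1]; exact hyp _
  have hyb : Commute y b := by rw [← p2]; exact hyp _
  have hx' : x ∈ Loc D y := ⟨A.hx, by rintro rfl; exact A.xa hya, hyx⟩
  have ha' : a ∈ Loc D y := ⟨A.ha, by rintro rfl; exact A.ab hyb, hya⟩
  have hb' : b ∈ Loc D y := ⟨A.hb, by rintro rfl; exact A.ab hya.symm, hyb⟩
  have ht := thin_N8 hT h
  have hth := thin_of_thinLines ht hy
  have FE := inherit_N8 F h hy
  have NE : N7 (Eb D y) := n7_transport (cIso_Eb R.fd ht hy) (h.loc y hy)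
  have hCL := cl_seven FE NE
  have hxH := mem_HH_of hx'
  have haH := mem_HH_of ha'
  have hbH := mem_HH_of hb'
  have htriH : tri x a b ∈ HH D y := by
    rw [tri, cj_def, cj_def, cj_def]
    exact mul_mem (mul_mem (mul_mem (mul_mem hxH hbH) (inv_mem hxH))
      (mul_mem (mul_mem haH hbH) (inv_mem haH))) (mul_mem (mul_mem hxH haH) (inv_mem hxH))
  have hcomm : Commute (tri x a b) x := by
    rw [A.tri_eq hT]
    exact (A.cc_commute_x hT).mul_left (Commute.refl x)
  have hβ : Commute (β D y (tri x a b)) (β D y x) := by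
    show β D y (tri x a b) * β D y x = β D y x * β D y (tri x a b)
    rw [← β_mul htriH hxH, ← β_mul hxH htriH, hcomm.eq]
  have h1 := hCL (β D y x) (β_mem hx') _ hβ
  obtain ⟨g, hgH, hgL, hg⟩ := exists_lift R.fd hth hx' h1
  have h2 : ∀ d ∈ Loc D y, Commute (tri x a b * g⁻¹) d := by
    have h3 : β D y (tri x a b * g⁻¹) = 1 := by
      rw [β_mul htriH (inv_mem hgH), β_inv hgH, hg, mul_inv_cancel]
    rw [β_of (mul_mem htriH (inv_mem hgH)), QuotientGroup.eq_one_iff] at h3
    intro d hd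
    have h4 := Subgroup.mem_center_iff.1 h3 ⟨d, mem_HH_of hd⟩
    have h5 : d * (tri x a b * g⁻¹) = (tri x a b * g⁻¹) * d := congrArg Subtype.val h4
    exact h5.symm
  have h3 := kernel F hθ hy (c := tri x a b * g⁻¹)
    (commute_of_mem_HH (mul_mem htriH (inv_mem hgH))) h2
  have h4 : tri x a b * g⁻¹ ∈ LL D x := by
    rcases h3 with h3 | h3
    · rw [h3]; exact one_mem _
    · rw [h3]; exact mem_LL hy hyx
  have := mul_mem h4 hgL
  rwa [inv_mul_cancel_right] at this

theorem card_N8 [Finite G] {D : Set G} (F : FGroup D) (h : N8 D) :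
    Nat.card G = 2510411418381323442585600 := by
  have R := rk_of_FGroup F
  have hT := tset_of_fdata R.fd
  obtain ⟨x, hx⟩ := R.fd.nonempty
  have FE := inherit_N8 F h hx
  have NE : N7 (Eb D x) := n7_transport (cIso_Eb R.fd (thin_N8 hT h) hx) (h.loc x hx)
  rw [card_of_CLD F (theta_N8 R.fd subset_rfl hT h) (cl_eight F h) hx, card_N7 FE NE, h.card]

/-- **The order in case `T8`** (`Fi24`). -/
theorem card_T8 [Finite G] {D : Set G} (F : Cfsg.Agent.Fischer480.Defs.FGroup D) (h : IsT8 D) :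
    Nat.card G = 2510411418381323442585600 :=
  card_N8 (inh F) (n8_of_isT8 h)

end Cfsg.Agent.H831.Eight
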