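import Mathlib
import Cfsg.Agent.H831.Types
set_option linter.all false

set_option autoImplicit false
set_option linter.style.haveILetI false

/-!
# There are no short relations between commuting transpositions

Type `T6`: no product of at most 5 distinct commuting transpositions is `1`; type `T7`: at most 6;
type `T8`: at most 7.  Consequence: products of at most 3 commuting transpositions have a unique
factorisation in types `T7`, `T8`.
-/

namespace Cfsg.Agent.H831.Short

open Cfsg Cfsg.Agent.SporadicStructure.FischerSpace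
open Cfsg.Agent.Fischer480.Defs
open Cfsg.Agent.TSp.Orders Cfsg.Agent.TSp.OrdersT Cfsg.Agent.TSp.Perp
open Cfsg.Agent.S0480U.UModel

universe u

variable {G : Type u} [Group G] {D S : Set G}

/-- no product of at most `n` (and at least one) distinct commuting members of `D` is `1` -/
def NoRel (D : Set G) (n : ℕ) : Prop := ∀ l : List G, l.Nodup → (∀ a ∈ l, a ∈ D) →
  (∀ a ∈ l, ∀ b ∈ l, Commute a b) → l.prod = 1 → l.length ≤ n → l = []

theorem inv_eq_self (hT : IsThreeTranspositionSet D) {x : G} (hx : x ∈ D) : x⁻¹ = x :=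
  inv_eq_of_mul_eq_one_left (Cfsg.Agent.SporadicB.ThreeTrans.mul_self hT hx)

/-- the conditions on the local set -/
structure Sep (S : Set G) : Prop where
  perp : PerpSub S
  ncomm : ∀ a ∈ S, ∃ c ∈ S, ¬ Commute c a

theorem sep_U (h : IsU 6 S) : Sep S := by
  refine ⟨perpSub_U h, ?_⟩
  intro a ha
  obtain ⟨F, i1, i2, f, U⟩ := exists_um h
  obtain ⟨w, hw, hzw⟩ := exists_not_commute U ha
  exact ⟨w, hw, fun h1 => hzw h1.symm⟩

/-- **The core lemma.** -/
theorem core (hT : IsThreeTranspositionSet D) (hSD : S ⊆ D) (hS : Sep S) (l : List G)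
    (hnd : l.Nodup) (hl : ∀ a ∈ l, a ∈ S) (hc : ∀ a ∈ l, ∀ b ∈ l, Commute a b) (h0 : l ≠ [])
    (hlen : l.length ≤ 4) (hcen : ∀ c ∈ S, Commute c l.prod) : False := by
  rcases l with _ | ⟨a, _ | ⟨b, _ | ⟨c, _ | ⟨d, _ | ⟨e, t⟩⟩⟩⟩⟩
  · exact h0 rfl
  · obtain ⟨k, hk, hka⟩ := hS.ncomm a (hl a (by simp))
    have h1 := hcen k hk
    rw [List.prod_singleton] at h1
    exact hka h1
  · obtain ⟨k, hk, hka⟩ := hS.ncomm a (hl a (by simp))
    have h1 := hcen k hk
    simp only [List.prod_cons, List.prod_nil, mul_one] at h1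
    have hab : a ≠ b := by
      rintro rfl
      simp at hnd
    exact hka ((Cfsg.Agent.SporadicB.ThreeTrans.commute_mul_iff hT (hSD (hl a (by simp)))
      (hSD (hl b (by simp))) (hSD hk) hab (hc a (by simp) b (by simp))).1 h1).1
  · obtain ⟨k, hk, hka⟩ := hS.ncomm a (hl a (by simp))
    have h1 := hcen k hk
    simp only [List.prod_cons, List.prod_nil, mul_one] at h1
    rw [← mul_assoc] at h1
    simp only [List.nodup_cons, List.mem_cons, List.not_mem_nil, or_false, not_or,
      List.nodup_nil, and_true, not_false_eq_true] at hnd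
    exact hka ((Cfsg.Agent.SporadicB.ThreeTrans.commute_mul_mul_iff hT (hSD (hl a (by simp)))
      (hSD (hl b (by simp))) (hSD (hl c (by simp))) (hSD hk) hnd.1.1 hnd.1.2 hnd.2
      (hc a (by simp) b (by simp)) (hc a (by simp) c (by simp)) (hc b (by simp) c (by simp))).1
      h1).1
  · simp only [List.nodup_cons, List.mem_cons, List.not_mem_nil, or_false, not_or,
      List.nodup_nil, and_true, not_false_eq_true] at hnd
    obtain ⟨⟨n1, n2, n3⟩, ⟨n4, n5⟩, n6⟩ := hnd
    have key : b = a := by
      apply hS.perp a (hl a (by simp)) b (hl b (by simp))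
      intro k hk hka
      have h1 := hcen k hk
      simp only [List.prod_cons, List.prod_nil, mul_one] at h1
      have h2 : Commute k (b * c * d) := by
        have h3 := hka.inv_right.mul_right h1
        rwa [inv_mul_cancel_left, ← mul_assoc] at h3
      exact ((Cfsg.Agent.SporadicB.ThreeTrans.commute_mul_mul_iff hT (hSD (hl b (by simp)))
        (hSD (hl c (by simp))) (hSD (hl d (by simp))) (hSD hk) n4 n5 n6
        (hc b (by simp) c (by simp)) (hc b (by simp) d (by simp)) (hc c (by simp) d (by simp))).1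
        h2).1
    exact n1 key.symm
  · simp only [List.length_cons] at hlen
    omega

theorem loc_of_ne {x a : G} (ha : a ∈ D) (hax : a ≠ x) (hc : Commute x a) : a ∈ Loc D x :=
  ⟨ha, hax, hc⟩

/-- one step up -/
theorem noRel_six (hT : IsThreeTranspositionSet D) (h : IsT6 D) : NoRel D 5 := by
  intro l hnd hl hc hp hlen
  rcases l with _ | ⟨x, r⟩
  · rfl
  exfalso
  by_cases hr : r = []
  · subst hr
    rw [List.prod_singleton] at hp
    have := hT.1 x (hl x (by simp))
    rw [hp, orderOf_one] at this
    omega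
  have hx : x ∈ D := hl x (by simp)
  rw [List.nodup_cons] at hnd
  have hS : Sep (Loc D x) := sep_U (h.2.1 x hx)
  refine core hT (fun a ha => ha.1) hS r hnd.2 ?_ ?_ hr ?_ ?_
  · intro a ha
    exact loc_of_ne (hl a (by simp [ha])) (by rintro rfl; exact hnd.1 ha)
      (hc x (by simp) a (by simp [ha]))
  · intro a ha b hb
    exact hc a (by simp [ha]) b (by simp [hb])
  · simp only [List.length_cons] at hlen
    omega
  · intro c hc'
    have h1 : r.prod = x⁻¹ := by
      rw [List.prod_cons] at hp
      exact eq_inv_of_mul_eq_one_right hp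
    rw [h1]
    exact hc'.2.2.symm.inv_right

theorem noRel_seven (hT : IsThreeTranspositionSet D) (h : IsT7 D) : NoRel D 6 := by
  intro l hnd hl hc hp hlen
  rcases l with _ | ⟨x, _ | ⟨y, r⟩⟩
  · rfl
  · exfalso
    rw [List.prod_singleton] at hp
    have := hT.1 x (hl x (by simp))
    rw [hp, orderOf_one] at this
    omega
  exfalso
  have hx : x ∈ D := hl x (by simp)
  have hy : y ∈ D := hl y (by simp)
  have hxy : Commute x y := hc x (by simp) y (by simp)
  rw [List.nodup_cons, List.nodup_cons] at hnd
  obtain ⟨n1, n2, n3⟩ := hnd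
  have hyx : y ≠ x := by rintro rfl; exact n1 (by simp)
  have h1 : r.prod = (x * y)⁻¹ := by
    rw [List.prod_cons, List.prod_cons, ← mul_assoc] at hp
    exact eq_inv_of_mul_eq_one_right hp
  by_cases hr : r = []
  · subst hr
    rw [List.prod_nil, eq_comm, inv_eq_one, mul_eq_one_iff_eq_inv,
      inv_eq_self hT hy] at h1
    exact hyx h1.symm
  have hS : Sep (Loc (Loc D x) y) := sep_U ((h.2.1 x hx).2.1 y ⟨hy, hyx, hxy⟩)
  refine core hT (fun a ha => ha.1.1) hS r n3 ?_ ?_ hr ?_ ?_
  · intro a ha
    refine ⟨⟨hl a (by simp [ha]), ?_, hc x (by simp) a (by simp [ha])⟩, ?_,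
      hc y (by simp) a (by simp [ha])⟩
    · rintro rfl; exact n1 (by simp [ha])
    · rintro rfl; exact n2 ha
  · intro a ha b hb
    exact hc a (by simp [ha]) b (by simp [hb])
  · simp only [List.length_cons] at hlen
    omega
  · intro c hc'
    rw [h1]
    exact (hc'.1.2.2.symm.mul_right hc'.2.2.symm).inv_right

theorem noRel_eight (hT : IsThreeTranspositionSet D) (h : IsT8 D) : NoRel D 7 := by
  intro l hnd hl hc hp hlen
  rcases l with _ | ⟨x, _ | ⟨y, _ | ⟨z, r⟩⟩⟩
  · rfl
  · exfalso
    rw [List.prod_singleton] at hp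
    have := hT.1 x (hl x (by simp))
    rw [hp, orderOf_one] at this
    omega
  · exfalso
    have hy : y ∈ D := hl y (by simp)
    rw [List.nodup_cons] at hnd
    simp only [List.prod_cons, List.prod_nil, mul_one] at hp
    rw [mul_eq_one_iff_eq_inv, inv_eq_self hT hy] at hp
    exact hnd.1 (by simp [hp])
  exfalso
  have hx : x ∈ D := hl x (by simp)
  have hy : y ∈ D := hl y (by simp)
  have hz : z ∈ D := hl z (by simp)
  have hxy : Commute x y := hc x (by simp) y (by simp)
  have hxz : Commute x z := hc x (by simp) z (by simp)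
  have hyz : Commute y z := hc y (by simp) z (by simp)
  rw [List.nodup_cons, List.nodup_cons, List.nodup_cons] at hnd
  obtain ⟨n1, n2, n3, n4⟩ := hnd
  have hyx : y ≠ x := by rintro rfl; exact n1 (by simp)
  have hzx : z ≠ x := by rintro rfl; exact n1 (by simp)
  have hzy : z ≠ y := by rintro rfl; exact n2 (by simp)
  have hS : Sep (Loc (Loc (Loc D x) y) z) := sep_U (((h.2.1 x hx).2.1 y ⟨hy, hyx, hxy⟩).2.1 z
    ⟨⟨hz, hzx, hxz⟩, hzy, hyz⟩)
  have h1 : r.prod = (x * y * z)⁻¹ := by
    rw [List.prod_cons, List.prod_cons, List.prod_cons, ← mul_assoc, ← mul_assoc] at hp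
    exact eq_inv_of_mul_eq_one_right hp
  by_cases hr : r = []
  · -- `x y z = 1`
    subst hr
    rw [List.prod_nil, eq_comm, inv_eq_one] at h1
    have hz' : z = x * y := by
      rw [mul_eq_one_iff_eq_inv, eq_comm,
        inv_eq_self hT hz] at h1
      exact h1
    -- all members of `D_x ∩ D_y` commute with `z`
    have h6 : IsT6 (Loc (Loc D x) y) := (h.2.1 x hx).2.1 y ⟨hy, hyx, hxy⟩
    have h7 : ∀ a ∈ Loc (Loc D x) y, Commute a z := by
      intro a ha
      rw [hz']
      exact ha.1.2.2.symm.mul_right ha.2.2.symm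
    have h8 := Cfsg.Agent.TSp.Orders.perpSub_N6 (n6_of_isT6 h6)
    have hzm : z ∈ Loc (Loc D x) y := ⟨⟨hz, hzx, hxz⟩, hzy, hyz⟩
    have h9 : ∀ a ∈ Loc (Loc D x) y, z = a := fun a ha =>
      h8 a ha z hzm (fun d hd _ => h7 d hd)
    have h10 : Loc (Loc D x) y = {z} := by
      ext a
      constructor
      · intro ha; exact (h9 a ha).symm
      · rintro rfl; exact hzm
    have h11 := h6.1
    rw [h10, Set.ncard_singleton] at h11
    omega
  refine core hT (fun a ha => ha.1.1.1) hS r n4 ?_ ?_ hr ?_ ?_
  · intro a ha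
    refine ⟨⟨⟨hl a (by simp [ha]), ?_, hc x (by simp) a (by simp [ha])⟩, ?_,
      hc y (by simp) a (by simp [ha])⟩, ?_, hc z (by simp) a (by simp [ha])⟩
    · rintro rfl; exact n1 (by simp [ha])
    · rintro rfl; exact n2 (by simp [ha])
    · rintro rfl; exact n3 ha
  · intro a ha b hb
    exact hc a (by simp [ha]) b (by simp [hb])
  · simp only [List.length_cons] at hlen
    omega
  · intro c hc'
    rw [h1]
    exact ((hc'.1.1.2.2.symm.mul_right hc'.1.2.2.symm).mul_right hc'.2.2.symm).inv_right

theorem NoRel.mono {n m : ℕ} (h : NoRel D n) (hmn : m ≤ n) : NoRel D m :=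
  fun l h1 h2 h3 h4 h5 => h l h1 h2 h3 h4 (h5.trans hmn)

/-! ### Unique factorisation -/

theorem sq_prod (hT : IsThreeTranspositionSet D) (l : List G) (hl : ∀ a ∈ l, a ∈ D)
    (hc : ∀ a ∈ l, ∀ b ∈ l, Commute a b) : l.prod * l.prod = 1 := by
  induction l with
  | nil => simp
  | cons a l ih =>
    rw [List.prod_cons]
    have h1 : Commute a l.prod := by
      apply Commute.list_prod_right
      intro b hb
      exact hc a (by simp) b (by simp [hb])
    have h2 := ih (fun b hb => hl b (by simp [hb])) (fun b hb c hc' => hc b (by simp [hb]) c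
      (by simp [hc']))
    calc a * l.prod * (a * l.prod) = a * (l.prod * a) * l.prod := by simp only [mul_assoc]
      _ = a * (a * l.prod) * l.prod := by rw [h1.eq]
      _ = (a * a) * (l.prod * l.prod) := by simp only [mul_assoc]
      _ = 1 := by
        rw [Cfsg.Agent.SporadicB.ThreeTrans.mul_self hT (hl a (by simp)), h2, one_mul]

/-- a member of `D` commuting with a product of at most three commuting members commutes with
each of them -/
theorem commute_of_prod (hT : IsThreeTranspositionSet D) (l : List G) (hnd : l.Nodup)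
    (hl : ∀ a ∈ l, a ∈ D) (hc : ∀ a ∈ l, ∀ b ∈ l, Commute a b) (hlen : l.length ≤ 3) {e : G}
    (he : e ∈ D) (h : Commute e l.prod) : ∀ a ∈ l, Commute e a := by
  rcases l with _ | ⟨a, _ | ⟨b, _ | ⟨c, _ | ⟨d, t⟩⟩⟩⟩
  · simp
  · intro k hk
    rw [List.mem_singleton] at hk
    subst hk
    rwa [List.prod_singleton] at h
  · simp only [List.prod_cons, List.prod_nil, mul_one] at h
    have hab : a ≠ b := by
      rintro rfl
      simp at hnd
    have h1 := (Cfsg.Agent.SporadicB.ThreeTrans.commute_mul_iff hT (hl a (by simp))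
      (hl b (by simp)) he hab (hc a (by simp) b (by simp))).1 h
    intro k hk
    simp only [List.mem_cons, List.not_mem_nil, or_false] at hk
    rcases hk with rfl | rfl
    · exact h1.1
    · exact h1.2
  · simp only [List.prod_cons, List.prod_nil, mul_one] at h
    rw [← mul_assoc] at h
    simp only [List.nodup_cons, List.mem_cons, List.not_mem_nil, or_false, not_or,
      List.nodup_nil, and_true, not_false_eq_true] at hnd
    have h1 := (Cfsg.Agent.SporadicB.ThreeTrans.commute_mul_mul_iff hT (hl a (by simp))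
      (hl b (by simp)) (hl c (by simp)) he hnd.1.1 hnd.1.2 hnd.2
      (hc a (by simp) b (by simp)) (hc a (by simp) c (by simp)) (hc b (by simp) c (by simp))).1 h
    intro k hk
    simp only [List.mem_cons, List.not_mem_nil, or_false] at hk
    rcases hk with rfl | rfl | rfl
    · exact h1.1
    · exact h1.2.1
    · exact h1.2.2
  · simp only [List.length_cons] at hlen
    omega

/-- **Unique factorisation.** -/
theorem unique (hT : IsThreeTranspositionSet D) {m : ℕ} (hN : NoRel D (2 * m)) (hm : m ≤ 3)
    (l l' : List G) (hnd : l.Nodup) (hnd' : l'.Nodup) (hlen : l.length ≤ m)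
    (hlen' : l'.length ≤ m) (hl : ∀ a ∈ l, a ∈ D) (hl' : ∀ a ∈ l', a ∈ D)
    (hc : ∀ a ∈ l, ∀ b ∈ l, Commute a b) (hc' : ∀ a ∈ l', ∀ b ∈ l', Commute a b)
    (hp : l.prod = l'.prod) : ∀ x : G, x ∈ l ↔ x ∈ l' := by
  classical
  have hcc : ∀ a ∈ l, ∀ b ∈ l', Commute a b := by
    intro a ha b hb
    have h1 : Commute b l.prod := by
      rw [hp]
      apply Commute.list_prod_right
      intro c hc1
      exact hc' b hb c hc1
    exact (commute_of_prod hT l hnd hl hc (hlen.trans hm) (hl' b hb) h1 a ha).symm
  set l1 := l.filter (fun a => a ∉ l') with hl1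
  set c1 := l.filter (fun a => ¬ (a ∉ l')) with hc1
  set l2 := l'.filter (fun a => a ∉ l) with hl2
  set c2 := l'.filter (fun a => ¬ (a ∉ l)) with hc2
  have e1 : l.prod = l1.prod * c1.prod := by
    have hperm : (l1 ++ c1).Perm l := by
      have := List.filter_append_perm (fun a => decide (a ∉ l')) l
      simpa [hl1, hc1] using this
    rw [← List.prod_append]
    exact (hperm.prod_eq' (List.Pairwise.imp_of_mem (fun {a b} ha hb _ =>
      hc a (hperm.subset ha) b (hperm.subset hb)) (hperm.symm.nodup hnd))).symm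
  have e2 : l'.prod = l2.prod * c2.prod := by
    have hperm : (l2 ++ c2).Perm l' := by
      have := List.filter_append_perm (fun a => decide (a ∉ l)) l'
      simpa [hl2, hc2] using this
    rw [← List.prod_append]
    exact (hperm.prod_eq' (List.Pairwise.imp_of_mem (fun {a b} ha hb _ =>
      hc' a (hperm.subset ha) b (hperm.subset hb)) (hperm.symm.nodup hnd'))).symm
  have hcperm : c1.Perm c2 := by
    rw [List.perm_ext_iff_of_nodup (hnd.filter _) (hnd'.filter _)]
    intro a
    simp only [hc1, hc2, List.mem_filter, not_not, decide_eq_true_eq]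
    tauto
  have e3 : c1.prod = c2.prod := by
    refine hcperm.prod_eq' (List.Pairwise.imp_of_mem (fun {a b} ha hb _ => ?_)
      (hnd.filter _))
    exact hc a (List.mem_of_mem_filter ha) b (List.mem_of_mem_filter hb)
  have e4 : l1.prod = l2.prod := by
    rw [e1, e2, e3] at hp
    exact mul_right_cancel hp
  have m1 : ∀ a ∈ l1, a ∈ l ∧ a ∉ l' := by
    intro a ha
    simpa [hl1, List.mem_filter] using ha
  have m2 : ∀ a ∈ l2, a ∈ l' ∧ a ∉ l := by
    intro a ha
    simpa [hl2, List.mem_filter] using ha
  have h0 : l1 ++ l2 = [] := by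
    apply hN
    · apply List.Nodup.append (hnd.filter _) (hnd'.filter _)
      intro a ha hb
      exact (m1 a ha).2 (m2 a hb).1
    · intro a ha
      rw [List.mem_append] at ha
      rcases ha with ha | ha
      · exact hl a (m1 a ha).1
      · exact hl' a (m2 a ha).1
    · intro a ha b hb
      rw [List.mem_append] at ha hb
      rcases ha with ha | ha <;> rcases hb with hb | hb
      · exact hc a (m1 a ha).1 b (m1 b hb).1
      · exact hcc a (m1 a ha).1 b (m2 b hb).1
      · exact (hcc b (m1 b hb).1 a (m2 a ha).1).symm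
      · exact hc' a (m2 a ha).1 b (m2 b hb).1
    · rw [List.prod_append, ← e4]
      exact sq_prod hT l1 (fun a ha => hl a (m1 a ha).1)
        (fun a ha b hb => hc a (m1 a ha).1 b (m1 b hb).1)
    · rw [List.length_append]
      have h1 : l1.length ≤ l.length := List.length_filter_le _ _
      have h2 : l2.length ≤ l'.length := List.length_filter_le _ _
      omega
  rw [List.append_eq_nil_iff] at h0
  intro x
  constructor
  · intro hx
    by_contra hx'
    have : x ∈ l1 := by
      rw [hl1, List.mem_filter]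
      exact ⟨hx, by simpa using hx'⟩
    rw [h0.1] at this
    simp at this
  · intro hx
    by_contra hx'
    have : x ∈ l2 := by
      rw [hl2, List.mem_filter]
      exact ⟨hx, by simpa using hx'⟩
    rw [h0.2] at this
    simp at this

end Cfsg.Agent.H831.Short
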