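import Cfsg.Agent.H831.SmallCoOct
import Cfsg.Agent.CTwoTab.Co1
import Cfsg.Agent.H961.SevX
import Cfsg.Agent.SporadicStructure.DodecadStab
import Cfsg.Agent.KFacts.CoTwo.QuotInst
import Cfsg.Agent.SevenCases.SporCo2
import Cfsg.Agent.KFacts.CoInv.TwoMono
import Cfsg.Agent.Co2Type.Setup
import Cfsg.Agent.CTwoTab.Co3
import Cfsg.Agent.H805.NilSp_m3
import Cfsg.Agent.H413.JOneSpec
import Cfsg.Agent.H379.J2Spec
import Cfsg.Agent.KFacts.J2.Facts
import Cfsg.Agent.H898.J3Cent
import Cfsg.Agent.H603.SporElim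
import Cfsg.Agent.H865.RhoEleven
import Cfsg.Agent.H858.CentS
import Cfsg.Agent.H805.NilMcL
import Cfsg.Agent.CpAutHe.Seven
import Cfsg.Agent.H997.OutHe2
import Cfsg.Agent.H547.SelfCent.He
import Cfsg.Agent.H866.ONFive
import Cfsg.Agent.H968.TwoON
import Cfsg.Agent.S0205
import Cfsg.Agent.FastGrp
import Cfsg.Agent.Prune
set_option linter.all false

section
prune_inst 0x7f00000000000000000000000000000000000000000000000000000000000000000000000000000000000000000000000000000000000000000000000000000000000000000000000000000000000000003fffffffffffffffffffffffffffbeffbdffffffff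

-- part: H831/SmallCoOne_mg
section
set_option linter.all false
open scoped Cfsg.Agent.FastGrp

-- part: H831/SmallCoOne
section
/-!
# Orders of nilpotent subgroups: `Co1` (helper831, for S2242)
-/

set_option autoImplicit false

namespace Cfsg.Agent.H831.SmallCo

open Subgroup Cfsg Cfsg.Spor
open scoped Pointwise
open Cfsg.Agent.H972.NSm
open Cfsg.Agent.CpAutBig
open Cfsg.Agent.SporadicA.Co0Mono (signCo0 permCo0 wordPerm signCo0_smul permCo0_smul signMap_apply permMap_apply)
open Cfsg.Agent.SporadicA.Co1Simple (exists_sign_perm allOne)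
open Cfsg.Agent.CoOneType.SignFacts (sup wt notMem_sup mem_sup)
open Cfsg.Agent.CoOneType.ClosingFacts (mk mk_mul mk_inv exists_mk mk_eq_one mk_eq isConj_octad)
open Cfsg.Agent.CoOneNWC.OmFacts (Om8 simple_om8 card_om8)

universe u

namespace One

theorem card_co1 : Nat.card Spor.Co1 = 4157776806543360000 := BpSpor.MBigCo.card_co1

/-- the centralizer of an element of odd order is the image of the centralizer of a lift -/
theorem card_cent_mk_dvd {a : Co0} {n : ℕ} (hn : Odd n) (ha : a ^ n = 1) :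
    Nat.card ↥(centralizer ({_root_.Cfsg.Agent.CoOneType.ClosingFacts.mk a} : Set Spor.Co1)) ∣ Nat.card ↥(centralizer ({a} : Set Co0)) := by
  have h1 : centralizer ({_root_.Cfsg.Agent.CoOneType.ClosingFacts.mk a} : Set Spor.Co1) = (centralizer ({a} : Set Co0)).map
      (QuotientGroup.mk' (Subgroup.center Co0)) := by
    apply le_antisymm
    · intro s hs
      obtain ⟨b, rfl⟩ := exists_mk s
      have h2 : _root_.Cfsg.Agent.CoOneType.ClosingFacts.mk a * _root_.Cfsg.Agent.CoOneType.ClosingFacts.mk b = _root_.Cfsg.Agent.CoOneType.ClosingFacts.mk b * _root_.Cfsg.Agent.CoOneType.ClosingFacts.mk a := (mem_centralizer_singleton_iff.1 hs).symm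
      have h3 := LThreeBX.NoSeven.comm_of_mk hn ha h2
      exact ⟨b, mem_centralizer_singleton_iff.2 h3.symm, rfl⟩
    · rintro _ ⟨b, hb, rfl⟩
      rw [mem_centralizer_singleton_iff]
      have h2 := mem_centralizer_singleton_iff.1 hb
      show _root_.Cfsg.Agent.CoOneType.ClosingFacts.mk (b * a) = _root_.Cfsg.Agent.CoOneType.ClosingFacts.mk (a * b)
      rw [h2]
  rw [h1]
  exact card_map_dvd _ _

theorem card_seven {s : Spor.Co1} (hs : orderOf s = 7) : Nat.card ↥(centralizer ({s} : Set Spor.Co1)) ≤ 35280 := by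
  have hfin := CoZero.finite_co0
  obtain ⟨a, ha, rfl⟩ := CpAutMSeven.RanksH.exists_lift hs
  have h1 : Nat.card ↥(centralizer ({(QuotientGroup.mk a : Spor.Co1)} : Set Spor.Co1)) ∣
      Nat.card ↥(centralizer ({a} : Set Co0)) :=
    card_cent_mk_dvd (n := 7) (by decide) (by rw [← ha, pow_orderOf_eq_one])
  refine (Nat.le_of_dvd Nat.card_pos h1).trans ?_
  by_cases h : ∀ v : leechLattice, a • v = v → v = 0
  · exact Nat.le_of_dvd (by norm_num) (H813.CoSevenCard.card_dvd ha h)
  · push Not at h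
    obtain ⟨v, hv, hv0⟩ := h
    obtain ⟨g, hg⟩ := SevenFix.conj_seven ha hv0 hv
    rw [CoZero.card_centralizer_of_conj (by norm_num) ha SevenFix.orderOf_r7 hg]
    exact SevenFix.card_le_r7.trans (by norm_num)

/-- the stabilizer of a pair of complementary dodecads -/
theorem ncard_dod {d : Finset GolayPt} (hd : d ∈ dodecads) :
    {σ : Equiv.Perm GolayPt | σ ∈ M24 ∧ (σ • d = d ∨ σ • d = dᶜ)}.ncard ≤ 190080 := by
  have hc := SporadicStructure.DodecadStab.card_DFix hd [] (by simp) (by simp) (by simp)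
  have hA : ((SporadicStructure.DodecadStab.DFix d [] : Subgroup (Equiv.Perm GolayPt)) :
      Set (Equiv.Perm GolayPt)).ncard = 95040 := by
    rw [← Nat.card_coe_set_eq]
    exact hc.trans (by decide)
  have hsub : ∃ τ : Equiv.Perm GolayPt, {σ : Equiv.Perm GolayPt | σ ∈ M24 ∧ (σ • d = d ∨ σ • d = dᶜ)} ⊆
      ((SporadicStructure.DodecadStab.DFix d [] : Subgroup (Equiv.Perm GolayPt)) :
        Set (Equiv.Perm GolayPt)) ∪
      (fun x => τ * x) '' ((SporadicStructure.DodecadStab.DFix d [] : Subgroup (Equiv.Perm GolayPt)) :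
        Set (Equiv.Perm GolayPt)) := by
    by_cases h : ∃ τ : Equiv.Perm GolayPt, τ ∈ M24 ∧ τ • d = dᶜ
    · obtain ⟨τ, hτ, hτd⟩ := h
      refine ⟨τ, ?_⟩
      rintro σ ⟨hσ, hσd | hσd⟩
      · left
        exact ⟨hσ, hσd, by simp⟩
      · right
        refine ⟨τ⁻¹ * σ, ⟨mul_mem (inv_mem hτ) hσ, ?_, by simp⟩, ?_⟩
        · rw [mul_smul, hσd, inv_smul_eq_iff, hτd]
        · show τ * (τ⁻¹ * σ) = σ
          group
    · refine ⟨1, ?_⟩
      rintro σ ⟨hσ, hσd | hσd⟩
      · left
        exact ⟨hσ, hσd, by simp⟩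
      · exact absurd ⟨σ, hσ, hσd⟩ h
  obtain ⟨τ, hτ⟩ := hsub
  have h2 := Set.ncard_le_ncard hτ (Set.toFinite _)
  have h3 := Set.ncard_union_le ((SporadicStructure.DodecadStab.DFix d [] :
    Subgroup (Equiv.Perm GolayPt)) : Set (Equiv.Perm GolayPt)) ((fun x => τ * x) ''
      ((SporadicStructure.DodecadStab.DFix d [] : Subgroup (Equiv.Perm GolayPt)) :
        Set (Equiv.Perm GolayPt)))
  have h4 := Set.ncard_image_le (f := fun x => τ * x) (Set.toFinite
    ((SporadicStructure.DodecadStab.DFix d [] : Subgroup (Equiv.Perm GolayPt)) :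
        Set (Equiv.Perm GolayPt)))
  omega

/-- `C(2C)` -/
theorem card_dod {o : golayCode} (ho : wt o = 12) :
    Nat.card ↥(centralizer ({_root_.Cfsg.Agent.CoOneType.ClosingFacts.mk (signCo0 o)} : Set Spor.Co1)) ≤ 778567680 := by
  have hfin := BpSpor.MBigCo.finite_co1
  have hd : sup o ∈ dodecads := ⟨CoOneType.SignFacts.sup_mem _, ho⟩
  let A : Set (Equiv.Perm GolayPt) := {σ | σ ∈ M24 ∧ (σ • sup o = sup o ∨ σ • sup o = (sup o)ᶜ)}
  have hA : Nat.card A ≤ 190080 := by
    rw [Nat.card_coe_set_eq]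
    exact ncard_dod hd
  have hex : ∀ k : ↥(centralizer ({_root_.Cfsg.Agent.CoOneType.ClosingFacts.mk (signCo0 o)} : Set Spor.Co1)), ∃ x : golayCode × A,
      ∃ hx : ((x.2 : Equiv.Perm GolayPt) ∈ M24),
        (k : Spor.Co1) = _root_.Cfsg.Agent.CoOneType.ClosingFacts.mk (signCo0 x.1 * permCo0 ⟨(x.2 : Equiv.Perm GolayPt), hx⟩) := by
    rintro ⟨k, hk⟩
    obtain ⟨g, rfl⟩ := exists_mk k
    obtain ⟨a, σ, rfl⟩ := exists_sign_perm (KFacts.Co1D4.DodBal.mem_N ho (mem_centralizer_singleton_iff.1 hk))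
    have h1 := CTwoTab.Co1.conj_sign a o σ
    rw [mem_centralizer_singleton_iff.1 hk, mul_inv_cancel_right] at h1
    refine ⟨⟨a, ⟨(σ : Equiv.Perm GolayPt), σ.2, ?_⟩⟩, σ.2, rfl⟩
    rcases KFacts.Co1D4.DodBal.mk_sign_eq h1.symm with h8 | h8
    · left
      show (σ : Equiv.Perm GolayPt) • sup o = sup o
      rw [← KFacts.Co1.OctPts.sup_wordPerm, h8]
    · right
      show (σ : Equiv.Perm GolayPt) • sup o = (sup o)ᶜ
      rw [← KFacts.Co1.OctPts.sup_wordPerm, h8, CoOneType.SignFacts.sup_add_allOne]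
  choose f hf hf' using hex
  have hinj : Function.Injective f := by
    intro a b hab
    apply Subtype.ext
    rw [hf', hf']
    congr 2
    · rw [hab]
    · congr 1
      exact Subtype.ext (congrArg (fun x : golayCode × A => (x.2 : Equiv.Perm GolayPt)) hab)
  have h2 := Nat.card_le_card_of_injective f hinj
  rw [Nat.card_prod, S0358.card_golayCode] at h2
  refine h2.trans ?_
  calc 4096 * Nat.card A ≤ 4096 * 190080 := Nat.mul_le_mul_left _ hA
    _ = 778567680 := by norm_num

theorem nle_oct (h8 : H972.NSm.Small Om8) {o : golayCode} (ho : wt o = 8) :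
    NLE 6756864 ↥(centralizer ({_root_.Cfsg.Agent.CoOneType.ClosingFacts.mk (signCo0 o)} : Set Spor.Co1)) := by
  have hfin := BpSpor.MBigCo.finite_co1
  obtain ⟨π, hπ, hker⟩ := exists_oct ho
  have h2 : NLE 13197 Om8 := h8.nle (by rw [card_om8]; norm_num)
  have h3 := h2.of_hom π
  rw [hker] at h3
  exact h3.mono (by norm_num)

theorem at_two (h8 : H972.NSm.Small Om8) : SmallAt 2 Spor.Co1 := by
  have hfin := BpSpor.MBigCo.finite_co1
  refine smallAt_of_cent Nat.prime_two fun x hx => ?_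
  obtain ⟨g, s, hs, rfl⟩ := CTwoTab.Co1.exists_rep x hx
  rcases hs with ⟨o, ho, rfl⟩ | ⟨o, ho, rfl⟩ | rfl
  · exact ⟨6756864, nle_conj _ _ (nle_oct h8 ho), by rw [card_co1]; norm_num⟩
  · exact ⟨778567680, nle_conj _ _ (nle_of_card (card_dod ho)), by rw [card_co1]; norm_num⟩
  · refine ⟨2012774400, nle_conj _ _ (nle_of_card ?_), by rw [card_co1]; norm_num⟩
    refine KFacts.Co1D4.Main.setup.card.trans ?_
    rw [KFacts.Co1D4.GTwo.card_L]

theorem at_thirteen (h2 : SmallAt 2 Spor.Co1) : SmallAt 13 Spor.Co1 := by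
  have hfin := BpSpor.MBigCo.finite_co1
  intro N hN h13
  by_cases he : 2 ∣ Nat.card ↥N
  · exact h2 N hN he
  have hp13 : Nat.Prime 13 := by norm_num
  obtain ⟨x, hx, -, hle⟩ := exists_le_centralizer hN hp13 h13
  obtain ⟨a, rfl, ha, hao⟩ := BpSpor.MBigCo.exists_lift_thirteen hx
  have h3 : Nat.card ↥N ∣ Nat.card ↥(centralizer ({a} : Set Co0)) :=
    (card_dvd_of_le hle).trans (card_cent_mk_dvd (n := 13) (by decide) ha)
  have hc : ∀ q : ℕ, q.Prime → (q = 2 ∨ (5 ≤ q ∧ q ≠ 13)) → (Nat.card ↥N).Coprime q := by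
    rintro q hq (rfl | ⟨h5, h13'⟩)
    · exact ((Nat.Prime.coprime_iff_not_dvd hq).2 he).symm
    · exact ((Nat.Prime.coprime_iff_not_dvd hq).2 fun h =>
        BpSpor.MBigCo.not_dvd_thirteen hao hq h5 h13' (h.trans h3)).symm
  have h4 : Nat.card ↥N ∣ 3 ^ 9 * 13 * 2 ^ 21 * 5 ^ 4 * 7 ^ 2 * 11 * 23 := by
    refine (card_subgroup_dvd_card N).trans (dvd_of_eq ?_)
    rw [card_co1]; norm_num
  have h5 := (hc 23 (by norm_num) (by norm_num)).dvd_of_dvd_mul_right h4
  have h6 := (hc 11 (by norm_num) (by norm_num)).dvd_of_dvd_mul_right h5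
  have h7 := ((hc 7 (by norm_num) (by norm_num)).pow_right 2).dvd_of_dvd_mul_right h6
  have h8 := ((hc 5 (by norm_num) (by norm_num)).pow_right 4).dvd_of_dvd_mul_right h7
  have h9 := ((hc 2 (by norm_num) (by norm_num)).pow_right 21).dvd_of_dvd_mul_right h8
  have h10 := Nat.le_of_dvd (by norm_num) h9
  calc Nat.card ↥N ^ 2 ≤ (3 ^ 9 * 13) ^ 2 := Nat.pow_le_pow_left h10 2
    _ < Nat.card Spor.Co1 := by rw [card_co1]; norm_num

theorem small (h8 : H972.NSm.Small Om8) : H972.NSm.Small Spor.Co1 := by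
  have hfin := BpSpor.MBigCo.finite_co1
  have hc := card_co1
  refine small_of_smallAt {2, 7, 11, 13} (3 ^ 9 * 5 ^ 4 * 23) (2 ^ 21 * (7 ^ 2 * (11 * 13))) (by rw [hc]; norm_num) ?_
    (by rw [hc]; norm_num) ?_
  · intro p hp hd
    rw [hp.dvd_mul, hp.dvd_mul, hp.dvd_mul] at hd
    simp only [Finset.mem_insert, Finset.mem_singleton]
    rcases hd with h | h | h | h
    · exact Or.inl ((Nat.prime_dvd_prime_iff_eq hp Nat.prime_two).1 (hp.dvd_of_dvd_pow h))
    · exact Or.inr (Or.inl ((Nat.prime_dvd_prime_iff_eq hp (by norm_num)).1 (hp.dvd_of_dvd_pow h)))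
    · exact Or.inr (Or.inr (Or.inl ((Nat.prime_dvd_prime_iff_eq hp (by norm_num)).1 h)))
    · exact Or.inr (Or.inr (Or.inr ((Nat.prime_dvd_prime_iff_eq hp (by norm_num)).1 h)))
  · intro p hp hpr
    simp only [Finset.mem_insert, Finset.mem_singleton] at hp
    rcases hp with rfl | rfl | rfl | rfl
    · exact at_two h8
    · exact smallAt_of_card hpr 35280 (by rw [hc]; norm_num) fun x hx => card_seven hx
    · exact smallAt_of_card hpr 132 (by rw [hc]; norm_num) fun x hx => BpSpor.MBigCo.card_cent hx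
    · exact at_thirteen (at_two h8)

end One

/-- **The row `Co1`.** -/
theorem small_Co1 {G : Type u} [Group G] [Finite G] (h : Cfsg.Spor.IsoCo1 G)
    (hI : ∀ (H : Type u) [Group H] [Finite H], IsSimpleGroup H → ¬ IsMulCommutative H → Nat.card H < Nat.card G →
      Cfsg.Agent.H972.NSm.Small H) : Cfsg.Agent.H972.NSm.Small G := by
  obtain ⟨e⟩ := h
  have hG : Nat.card G = 4157776806543360000 := (Nat.card_congr e.toEquiv).trans One.card_co1
  have hs8 := simple_om8
  refine (One.small (small_of_hI hI hs8 (not_comm_of_card ?_) ?_)).congr e.symm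
  · rw [card_om8]; norm_num
  · rw [card_om8, hG]; norm_num

end Cfsg.Agent.H831.SmallCo
end

-- part: H831/SmallCoTwo
section
/-!
# Orders of nilpotent subgroups: `Co2` (helper831, for S2242)

* `nle_z` : `C(2A) / R ≅ Sp₆(2)`; `nle_y` : `C(2B)` is contained in the centralizer `2^(1+8).Ω⁺(8,2)` of an octad
  sign change in `Co1`; `card_v` : `C(2C)` is monomial.
-/

set_option autoImplicit false

namespace Cfsg.Agent.H831.SmallCo

open Subgroup Cfsg Cfsg.Spor
open scoped Pointwise
open Cfsg.Agent.H972.NSm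
open Cfsg.Agent.CpAutBig
open Cfsg.Agent.SporadicA.Co0Mono (signCo0 permCo0 wordPerm signCo0_smul permCo0_smul signMap_apply permMap_apply)
open Cfsg.Agent.CoOneType.SignFacts (sup wt notMem_sup mem_sup)
open Cfsg.Agent.CoOneType.ClosingFacts (mk mk_mul mk_inv exists_mk mk_eq_one mk_eq isConj_octad)
open Cfsg.Agent.CoOneNWC.OmFacts (Om8 simple_om8 card_om8)
open Cfsg.Agent.Co2Type.Mono Cfsg.Agent.Co2Type.TGroup Cfsg.Agent.Co2Type.TData Cfsg.Agent.Co2Type.FactsD
open Cfsg.Agent.KFacts.Co1.OctPts (Fo mem_Fo fo_trans)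
open Cfsg.Agent.KFacts.Co1.RHat (Rh perm_mem_Rh)

universe u

namespace Two

theorem card_co2 : Nat.card Spor.Co2 = 42305421312000 := Schreier.CoTwoStab.card

/-- `C(z)`, with the bound for `Sp₆(2)` -/
theorem nle_z (h6 : H972.NSm.Small KFacts.CoTwo.Quot.Sp62) : NLE 616448 ↥(centralizer ({ge mz} : Set Spor.Co2)) := by
  have hfin : Finite Spor.Co2 := Schreier.CoTwoStab.finite
  have D := KFacts.CoTwo.QuotInst.dataT
  obtain ⟨π, hs, hker⟩ := D.quot
  have h1 : NLE 1204 KFacts.CoTwo.Quot.Sp62 := h6.nle (by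
    have h : Nat.card KFacts.CoTwo.Quot.Sp62 = 1451520 := Co2Type.Setup.card_sp6
    rw [h]; norm_num)
  have h2 := h1.of_hom π
  have h3 : Nat.card ↥π.ker = 2 ^ 9 := by
    have h4 : π.ker = KFacts.CoTwo.RSub.R.subgroupOf (centralizer ({ge mz} : Set Spor.Co2)) := by
      ext c
      rw [MonoidHom.mem_ker, hker, mem_subgroupOf]
    have hle : KFacts.CoTwo.RSub.R ≤ centralizer ({ge mz} : Set Spor.Co2) := fun x hx =>
      mem_centralizer_singleton_iff.2 (D.large.comm_z x hx)
    rw [h4, Nat.card_congr (subgroupOfEquivOfLe hle).toEquiv, KFacts.CoTwo.RLarge.card_R]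
  rw [h3] at h2
  exact h2.mono (by norm_num)

theorem exists_third {o : golayCode} (ho : wt o = 8) : ∃ p : GolayPt, p ∉ sup o ∧ p ≠ none ∧ p ≠ some 0 := by
  by_contra hcon
  push Not at hcon
  have h1 : (Finset.univ : Finset GolayPt) ⊆ sup o ∪ {none, some 0} := by
    intro p _
    rw [Finset.mem_union]
    by_cases hp : p ∈ sup o
    · exact Or.inl hp
    · right
      rw [Finset.mem_insert, Finset.mem_singleton]
      by_cases hp0 : p = none
      · exact Or.inl hp0
      · exact Or.inr (hcon p hp hp0)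
  have h2 := Finset.card_le_card h1
  have h3 := Finset.card_union_le (sup o) {(none : GolayPt), some 0}
  have h4 : ({(none : GolayPt), some 0} : Finset GolayPt).card ≤ 2 := Finset.card_le_two
  have h5 : (sup o).card = 8 := ho
  have h6 : (Finset.univ : Finset GolayPt).card = 24 := by decide
  omega

/-- the extraspecial group does not lie in `Co2` -/
theorem not_le {o : golayCode} (ho : wt o = 8) (h1 : none ∉ sup o) :
    ∃ r ∈ Rh o, ∀ g : Spor.Co2, _root_.Cfsg.Agent.CoOneType.ClosingFacts.mk (toCo0 g) ≠ _root_.Cfsg.Agent.CoOneType.ClosingFacts.mk r := by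
  obtain ⟨p, hp, hp1, hp2⟩ := exists_third ho
  obtain ⟨σ, hσ, hσp⟩ := fo_trans ho h1 hp
  refine ⟨permCo0 σ, perm_mem_Rh hσ, fun g hg => ?_⟩
  have hval : ((permCo0 σ • leechU : leechLattice) : GolayPt → ℤ) p = 4 := by
    rw [permCo0_smul, permMap_apply, ← hσp, Equiv.symm_apply_apply]
    rfl
  have hU : ((leechU : leechLattice) : GolayPt → ℤ) p = 0 := by
    show (if p = none ∨ p = some 0 then (4 : ℤ) else 0) = 0
    rw [if_neg (by push Not; exact ⟨hp1, hp2⟩)]
  have hg1 : toCo0 g • leechU = leechU := toCo0_smul g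
  rcases (mk_eq _ _).1 hg with h | h
  · rw [h] at hg1
    rw [hg1, hU] at hval
    norm_num at hval
  · rw [h, mul_smul, SporadicA.Co1Simple.allOne_smul, SporadicA.Co0Mono.smul_neg] at hg1
    have h2 := congrArg (fun u : leechLattice => (u : GolayPt → ℤ) p) hg1
    change -((permCo0 σ • leechU : leechLattice) : GolayPt → ℤ) p = (leechU : GolayPt → ℤ) p at h2
    rw [hval, hU] at h2
    norm_num at h2

/-- `C(y)`, with the bound for `Ω⁺(8, 2)` -/
theorem nle_oct (h8 : H972.NSm.Small Om8) {o : golayCode} (ho : wt o = 8) (h1 : none ∉ sup o) {y : Spor.Co2}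
    (hy : toCo0 y = signCo0 o) : NLE 3378432 ↥(centralizer ({y} : Set Spor.Co2)) := by
  have hfin : Finite Spor.Co2 := Schreier.CoTwoStab.finite
  have hfin1 := BpSpor.MBigCo.finite_co1
  let φ : Spor.Co2 →* Spor.Co1 := (QuotientGroup.mk' (Subgroup.center Co0)).comp toCo0
  have hφ : Function.Injective φ := mk_injective toCo0_injective PreUniqCo.Rows.leechU_ne toCo0_smul
  have hφy : φ y = _root_.Cfsg.Agent.CoOneType.ClosingFacts.mk (signCo0 o) := by
    show _root_.Cfsg.Agent.CoOneType.ClosingFacts.mk (toCo0 y) = _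
    rw [hy]
  obtain ⟨π, hπ, hker⟩ := exists_oct ho
  let ψ : ↥(centralizer ({y} : Set Spor.Co2)) →* ↥(centralizer ({_root_.Cfsg.Agent.CoOneType.ClosingFacts.mk (signCo0 o)} : Set Spor.Co1)) :=
    (MulEquiv.subgroupCongr (show centralizer ({φ y} : Set Spor.Co1) = centralizer ({_root_.Cfsg.Agent.CoOneType.ClosingFacts.mk (signCo0 o)} : Set Spor.Co1) by
      rw [hφy])).toMonoidHom.comp (centHom φ y)
  have hψ : Function.Injective ψ := by
    intro a b hab
    have h2 : ((ψ a : ↥(centralizer ({_root_.Cfsg.Agent.CoOneType.ClosingFacts.mk (signCo0 o)} : Set Spor.Co1))) : Spor.Co1) = ψ b := congrArg Subtype.val hab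
    exact centHom_injective hφ y (Subtype.ext h2)
  have hψv : ∀ c, ((ψ c : ↥(centralizer ({_root_.Cfsg.Agent.CoOneType.ClosingFacts.mk (signCo0 o)} : Set Spor.Co1))) : Spor.Co1) = _root_.Cfsg.Agent.CoOneType.ClosingFacts.mk (toCo0 c) := fun c => rfl
  -- the kernel
  have hL := KFacts.Co1.InCo1.large ho
  have hR : KFacts.Co1.InCo1.RCo1 o ≤ centralizer ({_root_.Cfsg.Agent.CoOneType.ClosingFacts.mk (signCo0 o)} : Set Spor.Co1) := fun x hx =>
    mem_centralizer_singleton_iff.2 (hL.comm_z x hx)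
  have hRn : ((KFacts.Co1.InCo1.RCo1 o).subgroupOf (centralizer ({_root_.Cfsg.Agent.CoOneType.ClosingFacts.mk (signCo0 o)} : Set Spor.Co1))).Normal := by
    constructor
    intro r hr c
    rw [mem_subgroupOf] at hr ⊢
    exact hL.conj_mem c (mem_centralizer_singleton_iff.1 c.2) r hr
  have hR2 : IsPGroup 2 ↥((KFacts.Co1.InCo1.RCo1 o).subgroupOf (centralizer ({_root_.Cfsg.Agent.CoOneType.ClosingFacts.mk (signCo0 o)} : Set Spor.Co1))) :=
    (LargeExtra.Base.isPGroup hL).of_equiv (subgroupOfEquivOfLe hR).symm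
  have hRk := normal_le_ker hπ hRn hR2
  let K : Subgroup ↥(centralizer ({_root_.Cfsg.Agent.CoOneType.ClosingFacts.mk (signCo0 o)} : Set Spor.Co1)) := (π.comp ψ).ker.map ψ
  have hK : K ≤ π.ker := by
    rintro _ ⟨c, hc, rfl⟩
    exact hc
  have hKne : K ≠ π.ker := by
    intro h
    obtain ⟨r, hr, hne⟩ := not_le ho h1
    have h2 : _root_.Cfsg.Agent.CoOneType.ClosingFacts.mk r ∈ KFacts.Co1.InCo1.RCo1 o := ⟨r, hr, rfl⟩
    have h3 : (⟨_root_.Cfsg.Agent.CoOneType.ClosingFacts.mk r, hR h2⟩ : ↥(centralizer ({_root_.Cfsg.Agent.CoOneType.ClosingFacts.mk (signCo0 o)} : Set Spor.Co1))) ∈ K := by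
      rw [h]
      exact hRk (mem_subgroupOf.2 h2)
    obtain ⟨c, -, hc⟩ := h3
    exact hne c ((hψv c).symm.trans (congrArg Subtype.val hc))
  have hcard : Nat.card ↥(π.comp ψ).ker ≤ 256 := by
    have h2 : Nat.card ↥(π.comp ψ).ker = Nat.card ↥K :=
      Nat.card_congr ((π.comp ψ).ker.equivMapOfInjective ψ hψ).toEquiv
    have h3 : Nat.card ↥K ∣ Nat.card ↥π.ker := card_dvd_of_le hK
    have h4 : Nat.card ↥K ≠ Nat.card ↥π.ker := fun h => hKne (eq_of_le_of_card_ge hK h.ge)
    rw [hker] at h3 h4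
    obtain ⟨k, hk, hk'⟩ := (Nat.dvd_prime_pow Nat.prime_two).1 h3
    rw [h2, hk']
    rw [hk'] at h4
    have h5 : k ≠ 9 := by rintro rfl; exact h4 rfl
    calc 2 ^ k ≤ 2 ^ 8 := Nat.pow_le_pow_right (by norm_num) (by omega)
      _ = 256 := by norm_num
  have h2 : NLE 13197 Om8 := h8.nle (by rw [card_om8]; norm_num)
  have h3 := h2.of_hom (π.comp ψ)
  refine h3.mono ?_
  calc Nat.card ↥(π.comp ψ).ker * 13197 ≤ 256 * 13197 := Nat.mul_le_mul_right _ hcard
    _ = 3378432 := by norm_num

/-! ### dodecads -/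

/-- the stabilizer of a dodecad and of a pair of points of it -/
theorem ncard_pair {d : Finset GolayPt} (hd : d ∈ dodecads) (h0 : none ∈ d) (h1 : some 0 ∈ d) :
    {σ : Equiv.Perm GolayPt | σ ∈ M24 ∧ σ • d = d ∧ (σ none = none ∧ σ (some 0) = some 0 ∨
      σ none = some 0 ∧ σ (some 0) = none)}.ncard ≤ 1440 := by
  have hc := SporadicStructure.DodecadStab.card_DFix hd [none, some 0] (by simp) (by simp [h0, h1]) (by simp)
  have hA : ((SporadicStructure.DodecadStab.DFix d [none, some 0] : Subgroup (Equiv.Perm GolayPt)) :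
      Set (Equiv.Perm GolayPt)).ncard = 720 := by
    rw [← Nat.card_coe_set_eq]
    exact hc.trans (by decide)
  have hsub : ∃ τ : Equiv.Perm GolayPt, {σ : Equiv.Perm GolayPt | σ ∈ M24 ∧ σ • d = d ∧
      (σ none = none ∧ σ (some 0) = some 0 ∨ σ none = some 0 ∧ σ (some 0) = none)} ⊆
      ((SporadicStructure.DodecadStab.DFix d [none, some 0] : Subgroup (Equiv.Perm GolayPt)) :
        Set (Equiv.Perm GolayPt)) ∪
      (fun x => τ * x) '' ((SporadicStructure.DodecadStab.DFix d [none, some 0] : Subgroup (Equiv.Perm GolayPt)) :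
        Set (Equiv.Perm GolayPt)) := by
    by_cases h : ∃ τ : Equiv.Perm GolayPt, τ ∈ M24 ∧ τ • d = d ∧ τ none = some 0 ∧ τ (some 0) = none
    · obtain ⟨τ, hτ, hτd, hτ0, hτ1⟩ := h
      refine ⟨τ, ?_⟩
      rintro σ ⟨hσ, hσd, ⟨ha, hb⟩ | ⟨ha, hb⟩⟩
      · left
        refine ⟨hσ, hσd, ?_⟩
        simp [ha, hb]
      · right
        refine ⟨τ⁻¹ * σ, ⟨mul_mem (inv_mem hτ) hσ, ?_, ?_⟩, ?_⟩
        · rw [mul_smul, hσd, inv_smul_eq_iff, hτd]
        · intro p hp
          simp only [List.mem_cons, List.not_mem_nil, or_false] at hp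
          rcases hp with rfl | rfl
          · rw [Equiv.Perm.mul_apply, ha, Equiv.Perm.inv_eq_iff_eq, hτ0]
          · rw [Equiv.Perm.mul_apply, hb, Equiv.Perm.inv_eq_iff_eq, hτ1]
        · show τ * (τ⁻¹ * σ) = σ
          group
    · refine ⟨1, ?_⟩
      rintro σ ⟨hσ, hσd, ⟨ha, hb⟩ | ⟨ha, hb⟩⟩
      · left
        refine ⟨hσ, hσd, ?_⟩
        simp [ha, hb]
      · exact absurd ⟨σ, hσ, hσd, ha, hb⟩ h
  obtain ⟨τ, hτ⟩ := hsub
  have h2 := Set.ncard_le_ncard hτ (Set.toFinite _)
  have h3 := Set.ncard_union_le ((SporadicStructure.DodecadStab.DFix d [none, some 0] :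
    Subgroup (Equiv.Perm GolayPt)) : Set (Equiv.Perm GolayPt)) ((fun x => τ * x) ''
      ((SporadicStructure.DodecadStab.DFix d [none, some 0] : Subgroup (Equiv.Perm GolayPt)) :
        Set (Equiv.Perm GolayPt)))
  have h4 := Set.ncard_image_le (f := fun x => τ * x) (Set.toFinite
    ((SporadicStructure.DodecadStab.DFix d [none, some 0] : Subgroup (Equiv.Perm GolayPt)) :
        Set (Equiv.Perm GolayPt)))
  omega

/-- the stabilizer of `U` among the monomial elements -/
theorem pair_of_smul {c : golayCode} {σ : M24} (h : (signCo0 c * permCo0 σ) • leechU = leechU) :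
    (σ : Equiv.Perm GolayPt) none = none ∧ (σ : Equiv.Perm GolayPt) (some 0) = some 0 ∨
      (σ : Equiv.Perm GolayPt) none = some 0 ∧ (σ : Equiv.Perm GolayPt) (some 0) = none := by
  have key : ∀ i : GolayPt, (i = none ∨ i = some 0) → ((σ : Equiv.Perm GolayPt).symm i = none ∨
      (σ : Equiv.Perm GolayPt).symm i = some 0) := by
    intro i hi
    by_contra hcon
    have h1 := congrArg (fun u : leechLattice => (u : GolayPt → ℤ) i) h
    change (((signCo0 c * permCo0 σ) • leechU : leechLattice) : GolayPt → ℤ) i = if i = none ∨ i = some 0 then 4 else 0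
      at h1
    rw [if_pos hi, mul_smul, signCo0_smul, signMap_apply, permCo0_smul, permMap_apply] at h1
    have h2 : ((leechU : leechLattice) : GolayPt → ℤ) ((σ : Equiv.Perm GolayPt).symm i) = 0 := by
      show (if _ ∨ _ then (4 : ℤ) else 0) = 0
      rw [if_neg hcon]
    rw [h2, mul_zero] at h1
    norm_num at h1
  have hne : (none : GolayPt) ≠ some 0 := by simp
  rcases key none (Or.inl rfl) with h1 | h1 <;> rcases key (some 0) (Or.inr rfl) with h2 | h2
  · exact absurd ((σ : Equiv.Perm GolayPt).symm.injective (h1.trans h2.symm)) hne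
  · left
    rw [Equiv.symm_apply_eq] at h1 h2
    exact ⟨h1.symm, h2.symm⟩
  · right
    rw [Equiv.symm_apply_eq] at h1 h2
    exact ⟨h2.symm, h1.symm⟩
  · exact absurd ((σ : Equiv.Perm GolayPt).symm.injective (h1.trans h2.symm)) hne

/-- `C(v)` -/
theorem card_dod {o : golayCode} (ho : wt o = 12) (h0 : none ∉ sup o) (h1 : some 0 ∉ sup o) {v : Spor.Co2}
    (hv : toCo0 v = signCo0 o)
    (hmono : ∀ g : Spor.Co2, g * v = v * g → ∃ (c : golayCode) (σ : M24), toCo0 g = signCo0 c * permCo0 σ) :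
    Nat.card ↥(centralizer ({v} : Set Spor.Co2)) ≤ 5898240 := by
  have hfin : Finite Spor.Co2 := Schreier.CoTwoStab.finite
  let d : Finset GolayPt := sup (o + SporadicA.Co1Simple.allOne)
  have hds : d = (sup o)ᶜ := CoOneType.SignFacts.sup_add_allOne o
  have hd : d ∈ dodecads := by
    refine ⟨CoOneType.SignFacts.sup_mem _, ?_⟩
    have h2 := CoOneType.SignFacts.wt_add_allOne o
    show wt (o + SporadicA.Co1Simple.allOne) = 12
    omega
  have hd0 : none ∈ d := by rw [hds, Finset.mem_compl]; exact h0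
  have hd1 : some 0 ∈ d := by rw [hds, Finset.mem_compl]; exact h1
  let A : Set (Equiv.Perm GolayPt) := {σ | σ ∈ M24 ∧ σ • d = d ∧ (σ none = none ∧ σ (some 0) = some 0 ∨
      σ none = some 0 ∧ σ (some 0) = none)}
  have hA : Nat.card A ≤ 1440 := by
    rw [Nat.card_coe_set_eq]
    exact ncard_pair hd hd0 hd1
  have hex : ∀ g : ↥(centralizer ({v} : Set Spor.Co2)), ∃ x : golayCode × A,
      ∃ hx : ((x.2 : Equiv.Perm GolayPt) ∈ M24), toCo0 g = signCo0 x.1 * permCo0 ⟨(x.2 : Equiv.Perm GolayPt), hx⟩ := by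
    intro g
    have hg := mem_centralizer_singleton_iff.1 g.2
    obtain ⟨c, σ, hcσ⟩ := hmono g hg
    have hσo : wordPerm σ o = o := by
      have h2 : toCo0 (g * v) = toCo0 (v * g) := congrArg _ hg
      rw [map_mul, map_mul, hv, hcσ, mul_assoc, SporadicA.Co0Mono.perm_mul_sign, ← mul_assoc, ← mul_assoc,
        ← SporadicA.Co0Mono.signCo0_add, ← SporadicA.Co0Mono.signCo0_add] at h2
      have h3 := (CoOneType.InvMain.sp_inj h2).1
      rw [add_comm o c] at h3
      exact add_left_cancel h3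
    refine ⟨⟨c, ⟨(σ : Equiv.Perm GolayPt), σ.2, ?_, ?_⟩⟩, σ.2, hcσ⟩
    · show (σ : Equiv.Perm GolayPt) • sup (o + SporadicA.Co1Simple.allOne) = sup (o + SporadicA.Co1Simple.allOne)
      rw [← KFacts.Co1.OctPts.sup_wordPerm, KFacts.Co1.OctPts.wordPerm_add, hσo]
      rfl
    · apply pair_of_smul (c := c)
      rw [← hcσ]
      exact toCo0_smul _
  choose f hf hf' using hex
  have hinj : Function.Injective f := by
    intro a b hab
    apply Subtype.ext
    apply toCo0_injective
    rw [hf', hf']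
    congr 2
    · rw [hab]
    · exact Subtype.ext (congrArg (fun x : golayCode × A => (x.2 : Equiv.Perm GolayPt)) hab)
  have h2 := Nat.card_le_card_of_injective f hinj
  rw [Nat.card_prod, S0358.card_golayCode] at h2
  refine h2.trans ?_
  calc 4096 * Nat.card A ≤ 4096 * 1440 := Nat.mul_le_mul_left _ hA
    _ = 5898240 := by norm_num

theorem notMem_sup_cd {m : ℕ} (hm : inE m = true) : none ∉ sup (cd m) ∧ some 0 ∉ sup (cd m) := by
  obtain ⟨hc, h0, h23⟩ := inE_iff.1 hm
  constructor
  · rw [notMem_sup, coe_cd hc, SporadicA.GolayBase.word_apply,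
      show SporadicA.GolayBase.idx (none : GolayPt) = 23 by decide, h23]
    rfl
  · rw [notMem_sup, coe_cd hc, SporadicA.GolayBase.word_apply,
      show SporadicA.GolayBase.idx (some 0 : GolayPt) = 0 by decide, h0]
    rfl

theorem at_two (h6 : H972.NSm.Small KFacts.CoTwo.Quot.Sp62) (h8 : H972.NSm.Small Om8) : SmallAt 2 Spor.Co2 := by
  have hfin : Finite Spor.Co2 := Schreier.CoTwoStab.finite
  refine smallAt_of_cent Nat.prime_two fun x hx => ?_
  have hxx : x * x = 1 := by rw [← pow_two, ← hx, pow_orderOf_eq_one]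
  have hx1 : x ≠ 1 := by
    intro h
    rw [h, orderOf_one] at hx
    omega
  rcases Co2Type.FactsClass.classes hxx hx1 with h | h | h
  · obtain ⟨g, rfl⟩ := isConj_iff.1 h
    exact ⟨616448, nle_conj _ _ (nle_z h6), by rw [card_co2]; norm_num⟩
  · obtain ⟨g, rfl⟩ := isConj_iff.1 h
    refine ⟨3378432, nle_conj _ _ (nle_oct h8 (o := cd my) ?_ (notMem_sup_cd iy).1 (KFacts.CoTwo.RLarge.toCo0_ge iy)),
      by rw [card_co2]; norm_num⟩
    rw [KFacts.CoInv.TwoMono.wt_cd (isCode_of_inE iy)]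
    decide +kernel
  · obtain ⟨g, rfl⟩ := isConj_iff.1 h
    refine ⟨5898240, nle_conj _ _ (nle_of_card (card_dod (o := cd mv) ?_ (notMem_sup_cd iv).1 (notMem_sup_cd iv).2
      (KFacts.CoTwo.RLarge.toCo0_ge iv) ?_)), by rw [card_co2]; norm_num⟩
    · rw [KFacts.CoInv.TwoMono.wt_cd (isCode_of_inE iv)]
      decide +kernel
    · intro g hg
      obtain ⟨m, Q, hm, hQ, -, rfl⟩ := SevenCases.Co2V.exists_mo2 hg
      exact ⟨cd m, SporadicStructure.M24El.el Q, toCo0_mo2 hm hQ⟩

theorem small (h6 : H972.NSm.Small KFacts.CoTwo.Quot.Sp62) (h8 : H972.NSm.Small Om8) : H972.NSm.Small Spor.Co2 := by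
  have hfin : Finite Spor.Co2 := Schreier.CoTwoStab.finite
  have hc := card_co2
  have hφ := toCo0_injective
  have hv := PreUniqCo.Rows.leechU_ne
  have hfix : ∀ x, toCo0 x • leechU = leechU := toCo0_smul
  refine small_of_smallAt {2, 7, 11} (3 ^ 6 * 5 ^ 3 * 23) (2 ^ 18 * (7 * 11)) (by rw [hc]; norm_num) ?_
    (by rw [hc]; norm_num) ?_
  · intro p hp hd
    rw [hp.dvd_mul, hp.dvd_mul] at hd
    simp only [Finset.mem_insert, Finset.mem_singleton]
    rcases hd with h | h | h
    · exact Or.inl ((Nat.prime_dvd_prime_iff_eq hp Nat.prime_two).1 (hp.dvd_of_dvd_pow h))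
    · exact Or.inr (Or.inl ((Nat.prime_dvd_prime_iff_eq hp (by norm_num)).1 h))
    · exact Or.inr (Or.inr ((Nat.prime_dvd_prime_iff_eq hp (by norm_num)).1 h))
  · intro p hp hpr
    simp only [Finset.mem_insert, Finset.mem_singleton] at hp
    rcases hp with rfl | rfl | rfl
    · exact at_two h6 h8
    · exact smallAt_of_card hpr 4704 (by rw [hc]; norm_num) fun x hx => card_seven hφ hv hfix hx
    · exact smallAt_of_card hpr 132 (by rw [hc]; norm_num) fun x hx => card_eleven hφ hv hfix hx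

end Two

/-- **The row `Co2`.** -/
theorem small_Co2 {G : Type u} [Group G] [Finite G] (h : Cfsg.Spor.IsoCo2 G)
    (hI : ∀ (H : Type u) [Group H] [Finite H], IsSimpleGroup H → ¬ IsMulCommutative H → Nat.card H < Nat.card G →
      Cfsg.Agent.H972.NSm.Small H) : Cfsg.Agent.H972.NSm.Small G := by
  obtain ⟨e⟩ := h
  have hG : Nat.card G = 42305421312000 := (Nat.card_congr e.toEquiv).trans Two.card_co2
  have hc6 : Nat.card KFacts.CoTwo.Quot.Sp62 = 1451520 := Co2Type.Setup.card_sp6
  have hf6 : Finite KFacts.CoTwo.Quot.Sp62 := Nat.finite_of_card_ne_zero (by rw [hc6]; norm_num)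
  have hs6 : IsSimpleGroup KFacts.CoTwo.Quot.Sp62 := inferInstance
  have hs8 := simple_om8
  refine (Two.small (small_of_hI hI hs6 (not_comm_of_card ?_) ?_) (small_of_hI hI hs8 (not_comm_of_card ?_) ?_)).congr
    e.symm
  · rw [hc6]; norm_num
  · rw [hc6, hG]; norm_num
  · rw [card_om8]; norm_num
  · rw [card_om8, hG]; norm_num

end Cfsg.Agent.H831.SmallCo
end
end

-- part: H831/SmallCoThree_mg
section
set_option linter.all false
open scoped Cfsg.Agent.FastGrp

-- part: H831/SmallCoThree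
section
/-!
# Orders of nilpotent subgroups: `Co3` (helper831, for S2242)
-/

set_option autoImplicit false

namespace Cfsg.Agent.H831.SmallCo

open Subgroup Cfsg Cfsg.Spor
open Cfsg.Agent.H972.NSm
open Cfsg.Agent.CpAutBig
open Cfsg.Agent.SporRec.Co3.Chain Cfsg.Agent.SporRec.Co3.Ident

universe u

/-- a group with a simple quotient with trivial center is not solvable -/
theorem not_solvable {C S : Type*} [Group C] [Group S] [IsSimpleGroup S] (hS : center S = ⊥) {f : C →* S}
    (hf : Function.Surjective f) : ¬ Group.IsSolvable C := by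
  intro h
  have h1 : Group.IsSolvable S := Group.isSolvable_of_surjective hf
  have h2 := IsSimpleGroup.comm_iff_isSolvable.2 h1
  have h3 : center S = ⊤ := by
    rw [eq_top_iff]
    intro x _
    rw [mem_center_iff]
    intro g
    exact h2 g x
  rw [hS] at h3
  exact bot_ne_top h3

namespace Three

theorem card_G3 : Nat.card G3 = 495766656000 := isCo3_G3.2

theorem at_two : SmallAt 2 G3 := by
  obtain ⟨w, D⟩ := CTwoTab.Co3.exists_data
  have := CTwoTab.Co3.finite_G3
  refine smallAt_of_cent Nat.prime_two fun x hx => ?_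
  obtain ⟨g, rfl | rfl⟩ := D.cls x hx
  · obtain ⟨π, N⟩ := D.ns
    refine ⟨580608, nle_conj _ _ (nle_five ?_ ?_), ?_⟩
    · have := Co2Type.Setup.isSimpleGroup_sp6
      exact not_solvable Co2Type.Setup.center_sp6 N.surj
    · rw [CTwoTab.Co3.card_of_NS N]
      norm_num
    · rw [card_G3]
      norm_num
  · obtain ⟨f, hf, hk⟩ := D.hom
    refine ⟨190080, nle_conj _ _ (nle_of_card ?_), ?_⟩
    · have h1 : Nat.card ↥(centralizer ({w} : Set G3)) = Nat.card ↥f.ker * Nat.card Spor.M12 := by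
        rw [← Subgroup.card_mul_index f.ker, Subgroup.index_ker, MonoidHom.range_eq_top.2 hf, Subgroup.card_top]
      have h2 : Nat.card ↥f.ker ≤ 2 := by
        have h3 : (f.ker : Set ↥(centralizer ({w} : Set G3))) ⊆ {1, ⟨w, mem_centralizer_singleton_iff.2 rfl⟩} := by
          intro x hx
          rcases hk x hx with h | h
          · exact Or.inl h
          · exact Or.inr (Subtype.ext h)
        have h4 := Set.ncard_le_ncard h3 (Set.toFinite _)
        refine h4.trans ((Set.ncard_insert_le _ _).trans ?_)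
        rw [Set.ncard_singleton]
      rw [h1, MTwelveType.SylowModel.card_M12]
      omega
    · rw [card_G3]
      norm_num

theorem small : H972.NSm.Small Spor.Co3 := by
  have hfin := CTwoTab.Co3.finite_G3
  have e := SporRec.Co3.Model.equivCo3
  have hfin3 : Finite Spor.Co3 := Finite.of_equiv _ e.toEquiv
  have hc : Nat.card Spor.Co3 = 495766656000 := by rw [← Nat.card_congr e.toEquiv, card_G3]
  let φ : Spor.Co3 →* Co0 := Subgroup.inclusion (inf_le_left : Spor.Co3 ≤ Co0)
  have hφ : Function.Injective φ := Subgroup.inclusion_injective _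
  have hv := PreUniqCo.Rows.leechV_ne
  have hfix : ∀ x, φ x • leechV = leechV := fun x => x.2.2
  refine small_of_smallAt {2, 5, 7, 11} (3 ^ 7 * 23) (2 ^ 10 * (5 ^ 3 * (7 * 11))) (by rw [hc]; norm_num) ?_
    (by rw [hc]; norm_num) ?_
  · intro p hp hd
    rw [hp.dvd_mul, hp.dvd_mul, hp.dvd_mul] at hd
    simp only [Finset.mem_insert, Finset.mem_singleton]
    rcases hd with h | h | h | h
    · exact Or.inl ((Nat.prime_dvd_prime_iff_eq hp Nat.prime_two).1 (hp.dvd_of_dvd_pow h))
    · exact Or.inr (Or.inl ((Nat.prime_dvd_prime_iff_eq hp Nat.prime_five).1 (hp.dvd_of_dvd_pow h)))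
    · exact Or.inr (Or.inr (Or.inl ((Nat.prime_dvd_prime_iff_eq hp (by norm_num)).1 h)))
    · exact Or.inr (Or.inr (Or.inr ((Nat.prime_dvd_prime_iff_eq hp (by norm_num)).1 h)))
  · intro p hp hpr
    simp only [Finset.mem_insert, Finset.mem_singleton] at hp
    rcases hp with rfl | rfl | rfl | rfl
    · exact at_two.congr e
    · refine smallAt_of_card hpr 384000 (by rw [hc]; norm_num) fun x hx => ?_
      refine Nat.le_of_dvd (by norm_num) ((dvd_five hφ hv hfix (a := 10) (b := 7) ?_ hx).trans ?_)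
      · rw [hc]; norm_num
      · norm_num
    · exact smallAt_of_card hpr 4704 (by rw [hc]; norm_num) fun x hx => card_seven hφ hv hfix hx
    · exact smallAt_of_card hpr 132 (by rw [hc]; norm_num) fun x hx => card_eleven hφ hv hfix hx

end Three

/-- **The row `Co3`.** -/
theorem small_Co3 {G : Type u} [Group G] [Finite G] (h : Cfsg.Spor.IsoCo3 G)
    (_hI : ∀ (H : Type u) [Group H] [Finite H], IsSimpleGroup H → ¬ IsMulCommutative H → Nat.card H < Nat.card G →
      Cfsg.Agent.H972.NSm.Small H) : Cfsg.Agent.H972.NSm.Small G := by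
  obtain ⟨e⟩ := h
  exact Three.small.congr e.symm

end Cfsg.Agent.H831.SmallCo
end

-- part: H805/NilJanko
section
/-!
# Nilpotent subgroups of J1, J2, J3 (helper805, task 427 for S2242)

`small_J1`, `small_J2`, `small_J3` : `|N| ^ 2 < |G|` for nilpotent `N`.
-/

set_option autoImplicit false

namespace Cfsg.Agent.H805.NilSp

open Cfsg Subgroup Cfsg.Agent.H972 Cfsg.Agent.H972.NSm

universe u

/-! ### J1 -/

theorem small_J1' : NSm.Small Spor.J1 := by
  have hs : IsSimpleGroup Spor.J1 := Cfsg.Agent.SporadicB.J1.Main.isJ1.1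
  have hc : Nat.card Spor.J1 = 175560 := Cfsg.Agent.SporadicB.J1.Main.isJ1.2
  have hf : Finite Spor.J1 := Nat.finite_of_card_ne_zero (by rw [hc]; norm_num)
  have hl := Cfsg.Agent.H413.JOneLocal.isLocal
  have h2 : SmallAt 2 Spor.J1 := smallAt_of_le (b := 120) Nat.prime_two (by rw [hc]; norm_num)
    fun x hx => (H413.JOneSpec.card_cent_two hl hx).le
  refine small_of_chk 3 21945 53 (by rw [hc]; norm_num) (by norm_num) (by norm_num) [3, 5] [] [(7, 11), (7, 19), (11, 19)]
    [1, 3, 5, 7, 11, 15, 19, 21, 33, 35] (by decide +kernel) ?_ (by simp) ?_ h2 (by decide +kernel)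
  · intro r hr
    simp only [List.mem_cons, List.not_mem_nil, or_false] at hr
    rcases hr with rfl | rfl
    · exact smallAt_of_le (b := 30) Nat.prime_three (by rw [hc]; norm_num) fun x hx => (hl.cent3 x hx).le
    · exact smallAt_of_le (b := 30) Nat.prime_five (by rw [hc]; norm_num) fun x hx => (hl.cent5 x hx).le
  · intro p hp
    simp only [List.mem_cons, List.not_mem_nil, or_false] at hp
    rcases hp with rfl | rfl | rfl
    · exact ⟨by norm_num, by norm_num, noComm_of_spec (by norm_num) fun g hg => by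
        have := H413.JOneSpec.orderOf_mem_J1 g; rw [hg] at this; revert this; decide⟩
    · exact ⟨by norm_num, by norm_num, noComm_of_spec (by norm_num) fun g hg => by
        have := H413.JOneSpec.orderOf_mem_J1 g; rw [hg] at this; revert this; decide⟩
    · exact ⟨by norm_num, by norm_num, noComm_of_spec (by norm_num) fun g hg => by
        have := H413.JOneSpec.orderOf_mem_J1 g; rw [hg] at this; revert this; decide⟩

theorem small_J1 {G : Type u} [Group G] [Finite G] (h : Cfsg.Spor.IsoJ1 G)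
    (_hI : ∀ (H : Type u) [Group H] [Finite H], IsSimpleGroup H → ¬ IsMulCommutative H → Nat.card H < Nat.card G →
      NSm.Small H) : NSm.Small G := by
  obtain ⟨e⟩ := h
  exact small_J1'.congr e.symm

/-! ### J2 -/

theorem small_J2 {G : Type u} [Group G] [Finite G] (h : Cfsg.Spor.IsoJ2 G)
    (_hI : ∀ (H : Type u) [Group H] [Finite H], IsSimpleGroup H → ¬ IsMulCommutative H → Nat.card H < Nat.card G →
      NSm.Small H) : NSm.Small G := by
  have hc := NotCT.Orders.j2 h
  have hord : ∀ g : G, orderOf g ∈ ({1, 2, 3, 4, 5, 6, 7, 8, 10, 12, 15} : Finset ℕ) := by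
    obtain ⟨e⟩ := h
    intro g
    rw [← MulEquiv.orderOf_eq e g]
    exact H379.J2Spec.orders_J2 (e g)
  obtain ⟨t, u, Q, v, ρ, D⟩ := KFacts.J2.Facts.exists_dat_of h
  have hs : IsSimpleGroup G := by
    obtain ⟨e⟩ := h
    have := Cfsg.Agent.S1620.result.1
    exact e.isSimpleGroup
  have h2 : SmallAt 2 G := by
    intro N hN h2N
    obtain ⟨x, hx, -, hle⟩ := exists_le_centralizer hN Nat.prime_two h2N
    have hb : Nat.card ↥N ∣ 1920 := by
      refine (Subgroup.card_dvd_of_le hle).trans ?_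
      rcases D.F.cover x hx with h1 | h1
      · rw [card_cent_isConj h1, D.F.cardC]
      · rw [card_cent_isConj h1, D.card_cent_u]; norm_num
    rw [hc]
    by_contra hlt
    push Not at hlt
    obtain ⟨c, hcc⟩ := hb
    have hn : 777 < Nat.card ↥N := by
      by_contra h
      push Not at h
      have := Nat.pow_le_pow_left h 2
      omega
    have hc3 : c < 3 := by
      by_contra h
      push Not at h
      have := Nat.mul_le_mul hn.le h
      omega
    have h30 : 30 ∣ Nat.card ↥N := by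
      interval_cases c
      · omega
      · rw [show Nat.card ↥N = 1920 by omega]; norm_num
      · rw [show Nat.card ↥N = 960 by omega]; norm_num
    obtain ⟨g, hg⟩ := exists_order_three hN Nat.prime_two Nat.prime_three Nat.prime_five (by norm_num) (by norm_num)
      (by norm_num) ((by norm_num : 2 ∣ 30).trans h30) ((by norm_num : 3 ∣ 30).trans h30)
      ((by norm_num : 5 ∣ 30).trans h30)
    have := hord g
    rw [hg] at this
    revert this
    decide
  refine small_of_chk 7 4725 7 (by rw [hc]; norm_num) (by norm_num) (by norm_num) [] [] [(3, 7)]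
    [1, 3, 5] (by decide +kernel) (by simp) (by simp) ?_ h2 (by decide +kernel)
  intro p hp
  simp only [List.mem_cons, List.not_mem_nil, or_false] at hp
  subst hp
  exact ⟨by norm_num, by norm_num, noComm_of_spec (by norm_num) fun g hg => by
    have := hord g; rw [hg] at this; revert this; decide⟩

/-! ### J3 -/

theorem small_J3 {G : Type u} [Group G] [Finite G] (h : Cfsg.Spor.IsoJ3 G)
    (_hI : ∀ (H : Type u) [Group H] [Finite H], IsSimpleGroup H → ¬ IsMulCommutative H → Nat.card H < Nat.card G →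
      NSm.Small H) : NSm.Small G := by
  obtain ⟨hs, hc, hM⟩ := H898.J3Cent.base h
  have h2 : SmallAt 2 G := smallAt_of_le (b := 1920) Nat.prime_two (by rw [hc]; norm_num)
    fun x hx => (hM x hx).2.1.le
  refine small_of_chk 7 392445 56 (by rw [hc]; norm_num) (by norm_num) (by norm_num) [17, 19] [] []
    [1, 3, 5, 9, 15, 17, 19, 27, 45, 51] (by decide +kernel) ?_ (by simp) (by simp) h2 (by decide +kernel)
  intro r hr
  simp only [List.mem_cons, List.not_mem_nil, or_false] at hr
  rcases hr with rfl | rfl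
  · exact smallAt_of_le (b := 17) (by norm_num) (by rw [hc]; norm_num) fun x hx => (H898.J3Cent.seventeen h hx).1.le
  · exact smallAt_of_le (b := 19) (by norm_num) (by rw [hc]; norm_num) fun x hx => (H898.J3Cent.card_nineteen h hx).le

end Cfsg.Agent.H805.NilSp
end

-- part: H805/NilJ4
section
/-!
# Nilpotent subgroups of J4 (helper805, task 427 for S2242)

`small_J4` : `|N| ^ 2 < |G|` for nilpotent `N`.
-/

set_option autoImplicit false

namespace Cfsg.Agent.H805.NilSp

open Cfsg Subgroup Cfsg.Agent.H972 Cfsg.Agent.H972.NSm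
open Cfsg.Agent.J4Type

universe u

theorem card_J4' : Nat.card Spor.J4 = 86775571046077562880 := Cfsg.Agent.S1703.result.2

/-- the centralizers of the involutions of `J4` -/
theorem cent_two_J4 {u : Spor.J4} (hu : orderOf u = 2) :
    Nat.card ↥(centralizer ({u} : Set Spor.J4)) ∣ 2 ^ 21 * 3 ^ 3 * 5 * 7 * 11 * 23 := by
  have hfin : Finite Spor.J4 := Nat.finite_of_card_ne_zero (by rw [card_J4']; norm_num)
  have hs : IsSimpleGroup Spor.J4 := Cfsg.Agent.S1703.result.1
  obtain ⟨t, Q, N, M, H⟩ := KFacts.J4.Transport.exists_hyp_of_iso (K := Spor.J4) ⟨MulEquiv.refl _⟩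
  have hct := H858.CentS.card_cent H
  obtain ⟨C, -, hz, -⟩ := H856.Bridge.exists_compl_of_hyp H
  have h0 : (none : GolayPt) ≠ some 0 := by decide
  have hnc := C.duad_not_conj none (some 0) h0
  have hz1 : C.z ≠ 1 := H856.CentRho.z_ne C
  have hzz : C.z * C.z = 1 := H856.CentRho.zz C
  have he1 : C.ε {none, some 0} ≠ 1 := DuadUniq.duad_ne_one C.toFrame h0
  have hH := FusionConj.isHex_hex0
  have hee : C.ε {none, some 0} * C.ε {none, some 0} = 1 :=
    (C.E_elem hex0 hH).1 _ (C.ε_mem _ (by rw [Finset.card_pair h0]; decide))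
  have huu : u * u = 1 := by rw [← pow_two, ← hu, pow_orderOf_eq_one]
  have hu1 : u ≠ 1 := by
    rintro rfl
    rw [orderOf_one] at hu
    exact absurd hu (by norm_num)
  have isJ4 := H859.BigPrime.isJ4
  have hcls : IsConj u C.z ∨ IsConj u (C.ε {none, some 0}) := by
    rcases Final.invol isJ4 u huu hu1 with h | h <;> rcases Final.invol isJ4 _ hzz hz1 with hz | hz <;>
      rcases Final.invol isJ4 _ hee he1 with he | he
    · exact absurd (hz.trans he.symm) hnc
    · exact Or.inl (h.trans hz.symm)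
    · exact Or.inr (h.trans he.symm)
    · exact absurd (hz.trans he.symm) hnc
    · exact absurd (hz.trans he.symm) hnc
    · exact Or.inr (h.trans he.symm)
    · exact Or.inl (h.trans hz.symm)
    · exact absurd (hz.trans he.symm) hnc
  rcases hcls with h | h
  · rw [card_cent_isConj h.symm, hz, hct]
    norm_num
  · rw [card_cent_isConj h.symm]
    have hle : centralizer ({C.ε {none, some 0}} : Set Spor.J4) ≤ normalizer (C.E hex0 : Set Spor.J4) := fun y hy =>
      DuadCent.duad_cent C.toFrame h0 (mem_centralizer_singleton_iff.1 hy)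
    refine (card_dvd_of_le hle).trans ?_
    have h1 := C.π.ker.card_mul_index
    rw [Subgroup.index_ker] at h1
    have h2 : C.π.ker = (C.E hex0).subgroupOf (normalizer (C.E hex0 : Set Spor.J4)) := by
      ext n
      rw [MonoidHom.mem_ker, C.π_ker, mem_subgroupOf]
    have h3 : Nat.card ↥((C.E hex0).subgroupOf (normalizer (C.E hex0 : Set Spor.J4))) = 2 ^ 11 := by
      rw [Nat.card_congr (subgroupOfEquivOfLe le_normalizer).toEquiv, C.E_card hex0 hH]
    rw [h2, h3] at h1
    rw [← h1, show (2 : ℕ) ^ 21 * 3 ^ 3 * 5 * 7 * 11 * 23 = 2 ^ 11 * 244823040 by norm_num]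
    refine Nat.mul_dvd_mul_left _ ?_
    rw [← Cfsg.Agent.SporadicA.M24Trans.card_M24]
    exact card_subgroup_dvd_card _

theorem cent_seven_J4 {x : Spor.J4} (hx : orderOf x = 7) :
    Nat.card ↥(centralizer ({x} : Set Spor.J4)) ∣ 2520 := by
  rw [← H859.BigCent.card_normalizer_seven (P := zpowers x) (by rw [Nat.card_zpowers, hx])]
  refine card_dvd_of_le ?_
  intro g hg
  have hgx : Commute g x := mem_centralizer_singleton_iff.1 hg
  rw [mem_normalizer_iff]
  intro h
  constructor
  · intro hh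
    obtain ⟨k, rfl⟩ := mem_zpowers_iff.1 hh
    rw [(hgx.zpow_right k).eq, mul_inv_cancel_right]
    exact hh
  · intro hh
    obtain ⟨k, hk⟩ := mem_zpowers_iff.1 hh
    have h1 : h = x ^ k := by
      have h2 : g⁻¹ * (g * h * g⁻¹) * g = g⁻¹ * x ^ k * g := by rw [hk]
      have h3 : g⁻¹ * (g * h * g⁻¹) * g = h := by group
      rw [← h3, h2, (hgx.zpow_right k).inv_left.eq, inv_mul_cancel_right]
    rw [h1]
    exact zpow_mem (mem_zpowers x) k

/-- the divisors of `|J4|_{2'}` less than 4442 -/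
def LJ4 : List ℕ := [1, 3, 5, 7, 9, 11, 15, 21, 23, 27, 29, 31, 33, 35, 37, 43, 45, 55, 63, 69, 77, 87, 93, 99, 105, 111, 115,
    121, 129, 135, 145, 155, 161, 165, 185, 189, 203, 207, 215, 217, 231, 253, 259, 261, 279, 297, 301, 315, 319,
    333, 341, 345, 363, 385, 387, 407, 435, 465, 473, 483, 495, 555, 605, 609, 621, 645, 651, 667, 693, 713, 759,
    777, 783, 805, 837, 847, 851, 899, 903, 945, 957, 989, 999, 1015, 1023, 1035, 1073, 1085, 1089, 1147, 1155,
    1161, 1221, 1247, 1265, 1295, 1305, 1331, 1333, 1395, 1419, 1449, 1485, 1505, 1591, 1595, 1665, 1705, 1771,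
    1815, 1827, 1935, 1953, 2001, 2035, 2079, 2139, 2233, 2277, 2331, 2365, 2387, 2415, 2541, 2553, 2697, 2709,
    2783, 2849, 2871, 2967, 3045, 3069, 3105, 3219, 3255, 3267, 3311, 3335, 3441, 3465, 3509, 3565, 3663, 3741,
    3751, 3795, 3885, 3915, 3993, 3999, 4185, 4235, 4255, 4257, 4347]

theorem small_J4' : NSm.Small Spor.J4 := by
  have hc := card_J4'
  have hf : Finite Spor.J4 := Nat.finite_of_card_ne_zero (by rw [hc]; norm_num)
  have hs : IsSimpleGroup Spor.J4 := Cfsg.Agent.S1703.result.1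
  have h7 : SmallAt 7 Spor.J4 := smallAt_of_le (b := 2520) (by norm_num) (by rw [hc]; norm_num)
    fun x hx => Nat.le_of_dvd (by norm_num) (cent_seven_J4 hx)
  have hno2 : ∀ p : ℕ, p.Prime → 23 ≤ p → NoComm p 2 Spor.J4 := fun p hp h23 x y hx hy hxy =>
    H859.BigPrime.not_comm_two hp h23 hx hy hxy.eq
  have h2 : SmallAt 2 Spor.J4 := by
    intro N hN h2N
    by_cases h7N : 7 ∣ Nat.card ↥N
    · exact h7 N hN h7N
    obtain ⟨x, hx, -, hle⟩ := exists_le_centralizer hN Nat.prime_two h2N
    have h23 : ¬ 23 ∣ Nat.card ↥N := fun h =>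
      not_dvd_of_noComm (s := 23) (by norm_num) (hno2 23 (by norm_num) le_rfl).symm hx
        (h.trans (card_dvd_of_le hle))
    have hd : Nat.card ↥N ∣ 2 ^ 21 * 3 ^ 3 * 5 * 11 := by
      have h1 := (card_dvd_of_le hle).trans (cent_two_J4 hx)
      rw [show (2 : ℕ) ^ 21 * 3 ^ 3 * 5 * 7 * 11 * 23 = (2 ^ 21 * 3 ^ 3 * 5 * 11) * 7 * 23 by ring] at h1
      have h3 := Nat.Coprime.dvd_of_dvd_mul_right
        ((Nat.Prime.coprime_iff_not_dvd (by norm_num)).2 h23).symm h1
      exact Nat.Coprime.dvd_of_dvd_mul_right ((Nat.Prime.coprime_iff_not_dvd (by norm_num)).2 h7N).symm h3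
    have hle' := Nat.le_of_dvd (by norm_num) hd
    rw [hc]
    exact (Nat.pow_le_pow_left hle' 2).trans_lt (by norm_num)
  refine small_of_chk 21 41377816699065 4442 (by rw [hc]; norm_num) (by norm_num) (by norm_num) [7]
    [23, 29, 31, 37, 43] [(3, 23)] LJ4 (by decide +kernel) ?_ ?_ ?_ h2 (by decide +kernel)
  · intro r hr
    rw [List.mem_singleton] at hr
    subst hr
    exact h7
  · intro r hr
    simp only [List.mem_cons, List.not_mem_nil, or_false] at hr
    rcases hr with rfl | rfl | rfl | rfl | rfl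
    · exact ⟨by norm_num, by norm_num, by norm_num, hno2 _ (by norm_num) (by norm_num)⟩
    · exact ⟨by norm_num, by norm_num, by norm_num, hno2 _ (by norm_num) (by norm_num)⟩
    · exact ⟨by norm_num, by norm_num, by norm_num, hno2 _ (by norm_num) (by norm_num)⟩
    · exact ⟨by norm_num, by norm_num, by norm_num, hno2 _ (by norm_num) (by norm_num)⟩
    · exact ⟨by norm_num, by norm_num, by norm_num, hno2 _ (by norm_num) (by norm_num)⟩
  · intro p hp
    rw [List.mem_singleton] at hp
    subst hp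
    exact ⟨by norm_num, by norm_num, fun x y hx hy hxy =>
      H859.BigPrime.not_comm_three (p := 23) (by norm_num) le_rfl hy hx hxy.symm.eq⟩

theorem small_J4 {G : Type u} [Group G] [Finite G] (h : Cfsg.Spor.IsoJ4 G)
    (_hI : ∀ (H : Type u) [Group H] [Finite H], IsSimpleGroup H → ¬ IsMulCommutative H → Nat.card H < Nat.card G →
      NSm.Small H) : NSm.Small G := by
  obtain ⟨e⟩ := h
  exact small_J4'.congr e.symm

end Cfsg.Agent.H805.NilSp
end

-- part: H805/NilHe
section
/-!
# Nilpotent subgroups of He (helper805, task 428 for S2242)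

`small_He` : `|N| ^ 2 < |G|` for nilpotent `N`.
-/

set_option autoImplicit false

namespace Cfsg.Agent.H805.NilSp

open Cfsg Subgroup Cfsg.Agent.H972 Cfsg.Agent.H972.NSm
open scoped Pointwise

universe u

/-- a nilpotent subgroup with a full Sylow `p`-subgroup: its other Sylow subgroups have orders dividing the orders of
all centralizers of elements of order `p` -/
theorem dvd_cent_of_full {G : Type*} [Group G] [Finite G] {p q k b : ℕ} (hp : p.Prime) (hq : q.Prime) (hpq : p ≠ q)
    (hk : ¬ p ^ (k + 1) ∣ Nat.card G) {N : Subgroup G} (hN : Group.IsNilpotent ↥N) (h1 : p ^ k ∣ Nat.card ↥N)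
    (h2 : q ^ b ∣ Nat.card ↥N) {y : G} (hy : orderOf y = p) :
    q ^ b ∣ Nat.card ↥(centralizer ({y} : Set G)) := by
  have hpf : Fact p.Prime := ⟨hp⟩
  obtain ⟨T, Q, hT, hQ, hTQ⟩ := exists_sylow_pair hN hp hq hpq h1 h2
  have hTp : IsPGroup p ↥T := IsPGroup.of_card hT
  have hidx : ¬ p ∣ T.index := by
    intro h
    apply hk
    rw [← Subgroup.card_mul_index T, hT, pow_succ]
    exact Nat.mul_dvd_mul_left _ h
  let P : Sylow p G := hTp.toSylow hidx
  have hyp : IsPGroup p ↥(zpowers y) := IsPGroup.of_card (n := 1) (by rw [Nat.card_zpowers, hy, pow_one])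
  obtain ⟨P', hP'⟩ := hyp.exists_le_sylow
  obtain ⟨g, hg⟩ := MulAction.exists_smul_eq G P P'
  have h3 : y ∈ (P' : Subgroup G) := hP' (mem_zpowers y)
  rw [← hg] at h3
  have h4 : g⁻¹ * y * g ∈ T := by
    rw [Sylow.coe_subgroup_smul] at h3
    rw [Subgroup.mem_pointwise_smul_iff_inv_smul_mem] at h3
    have h5 : g⁻¹ * y * g ∈ (P : Subgroup G) := by simpa [MulAut.smul_def] using h3
    exact h5
  have h5 : Q ≤ centralizer ({g⁻¹ * y * g} : Set G) := by
    intro s hs
    exact mem_centralizer_singleton_iff.2 (hTQ _ h4 s hs).symm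
  have h6 := Subgroup.card_dvd_of_le h5
  rw [hQ] at h6
  rwa [card_cent_isConj (t := y) (y := g⁻¹ * y * g) (isConj_iff.2 ⟨g⁻¹, by group⟩)] at h6

open Cfsg.Spor.He Cfsg.Agent.SporadicB.HePerm Cfsg.Agent.FixBN.HeStab

theorem small_He' : NSm.Small Spor.He := by
  have hc : Nat.card Spor.He = 4030387200 := KFacts.He.Classes.card_he
  have hf : Finite Spor.He := Nat.finite_of_card_ne_zero (by rw [hc]; norm_num)
  intro N hN
  by_cases hN2 : 2 ∣ Nat.card ↥N
  · by_cases hN7 : 7 ∣ Nat.card ↥N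
    · obtain ⟨x, hx, hxN, hle⟩ := exists_le_centralizer hN (by norm_num : Nat.Prime 7) hN7
      have h1 : Nat.card ↥(centralizer ({x} : Set Spor.He)) ≤ 1176 := by
        refine CpAutHe.Seven.card_le hx ?_
        rw [Nat.not_odd_iff_even, even_iff_two_dvd]
        exact hN2.trans (Subgroup.card_dvd_of_le hle)
      have h2 := (Nat.le_of_dvd Nat.card_pos (Subgroup.card_dvd_of_le hle)).trans h1
      rw [hc]
      exact (Nat.pow_le_pow_left h2 2).trans_lt (by norm_num)
    · obtain ⟨x, hx, hxN, hle⟩ := exists_le_centralizer hN Nat.prime_two hN2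
      have hxx : x * x = 1 := by rw [← pow_two, ← hx, pow_orderOf_eq_one]
      have hx1 : x ≠ 1 := by
        rintro rfl
        rw [orderOf_one] at hx
        omega
      have h1 : Nat.card ↥N ∣ 161280 ∨ Nat.card ↥N ≤ 21504 := by
        rcases KFacts.He.Classes.two_classes_a hxx hx1 with ⟨g, hg⟩ | ⟨g, hg⟩
        · right
          have h2 := Subgroup.card_dvd_of_le hle
          rw [← hg, card_cent_isConj (isConj_iff.2 ⟨g, rfl⟩), KFacts.He.Classes.card_centralizer] at h2
          exact Nat.le_of_dvd (by norm_num) h2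
        · left
          have h2 := Subgroup.card_dvd_of_le hle
          rw [← hg, card_cent_isConj (isConj_iff.2 ⟨g, rfl⟩)] at h2
          exact h2.trans H997.OutHe.card_cent_a
      have h3 : Nat.card ↥N ≤ 23040 := by
        rcases h1 with h1 | h1
        · have h2 : Nat.card ↥N ∣ 7 * 23040 := h1
          exact Nat.le_of_dvd (by norm_num)
            (((Nat.Prime.coprime_iff_not_dvd (by norm_num : Nat.Prime 7)).2 hN7).symm.dvd_of_dvd_mul_left h2)
        · exact h1.trans (by norm_num)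
      rw [hc]
      exact (Nat.pow_le_pow_left h3 2).trans_lt (by norm_num)
  by_cases hN17 : 17 ∣ Nat.card ↥N
  · obtain ⟨x, hx, hxN, hle⟩ := exists_le_centralizer hN (by norm_num : Nat.Prime 17) hN17
    have h2 := Nat.le_of_dvd Nat.card_pos (Subgroup.card_dvd_of_le hle)
    rw [H547.SelfCent.HeRow.he ⟨MulEquiv.refl _⟩ hc hx] at h2
    rw [hc]
    exact (Nat.pow_le_pow_left h2 2).trans_lt (by norm_num)
  have hdv : Nat.card ↥N ∣ 4030387200 := by rw [← hc]; exact card_subgroup_dvd_card N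
  have h3 : Nat.card ↥N ∣ 231525 := by
    have e1 : Nat.card ↥N ∣ 2 ^ 10 * (17 * 231525) := by norm_num only []; exact hdv
    have e2 := (((Nat.Prime.coprime_iff_not_dvd Nat.prime_two).2 hN2).symm.pow_right 10).dvd_of_dvd_mul_left e1
    exact ((Nat.Prime.coprime_iff_not_dvd (by norm_num : Nat.Prime 17)).2 hN17).symm.dvd_of_dvd_mul_left e2
  by_contra hlt
  push Not at hlt
  rw [hc] at hlt
  obtain ⟨c, hcc⟩ := h3
  have hc3 : c ≤ 3 := by
    by_contra hc4
    push Not at hc4
    have h4 : Nat.card ↥N * 4 ≤ 231525 := by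
      calc Nat.card ↥N * 4 ≤ Nat.card ↥N * c := Nat.mul_le_mul_left _ hc4
        _ = 231525 := hcc.symm
    have h5 : Nat.card ↥N ≤ 57881 := by omega
    have h6 : Nat.card ↥N ^ 2 ≤ 57881 ^ 2 := Nat.pow_le_pow_left h5 2
    norm_num only [] at h6
    omega
  have hN' : Nat.card ↥N = 231525 ∨ Nat.card ↥N = 77175 := by
    have : c = 0 ∨ c = 1 ∨ c = 2 ∨ c = 3 := by omega
    rcases this with rfl | rfl | rfl | rfl <;> (clear * - hcc hN2; omega)
  have hk : ¬ 7 ^ (3 + 1) ∣ Nat.card Spor.He := by rw [hc]; norm_num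
  have h5 := dvd_cent_of_full (p := 7) (q := 5) (k := 3) (b := 2) (by norm_num) (by norm_num) (by norm_num) hk hN
    (by rcases hN' with h | h <;> rw [h] <;> norm_num) (by rcases hN' with h | h <;> rw [h] <;> norm_num)
    CpAutHe.Seven.order1
  have h9 := dvd_cent_of_full (p := 7) (q := 3) (k := 3) (b := 2) (by norm_num) (by norm_num) (by norm_num) hk hN
    (by rcases hN' with h | h <;> rw [h] <;> norm_num) (by rcases hN' with h | h <;> rw [h] <;> norm_num)
    CpAutHe.Seven.order1
  have h225 : 5 ^ 2 * 3 ^ 2 ∣ Nat.card ↥(centralizer ({CpAutHe.Seven.x1} : Set Spor.He)) :=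
    Nat.Coprime.mul_dvd_of_dvd_of_dvd (by norm_num) h5 h9
  have h6 := Nat.le_of_dvd Nat.card_pos h225
  have h7 : Nat.card ↥(centralizer ({CpAutHe.Seven.x1} : Set Spor.He)) ≤ 196 := CpAutHe.Bound.card1
  norm_num only [] at h6
  (clear * - h7 h6; omega)

theorem small_He {G : Type u} [Group G] [Finite G] (h : Cfsg.Spor.IsoHe G)
    (_hI : ∀ (H : Type u) [Group H] [Finite H], IsSimpleGroup H → ¬ IsMulCommutative H → Nat.card H < Nat.card G →
      NSm.Small H) : NSm.Small G := by
  obtain ⟨e⟩ := h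
  exact small_He'.congr e.symm

end Cfsg.Agent.H805.NilSp
end

-- part: H805/NilON
section
/-!
# Nilpotent subgroups of O'N (helper805, task 429 for S2242)

`small_ON` : `|N| ^ 2 < |G|` for nilpotent `N`.
-/

set_option autoImplicit false

namespace Cfsg.Agent.H805.NilSp

open Cfsg Subgroup Cfsg.Agent.H972 Cfsg.Agent.H972.NSm
open Cfsg.Spor (ON)
open Cfsg.Agent.SporadicB.ON45Word (on)
open Cfsg.Agent.KFacts.ON.Words (vv v)

universe u

namespace ON

theorem hcard : Nat.card ON = 460815505920 := Cfsg.Agent.KFacts.ON.OneClass.card_ON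

/-- the centralizers of the involutions of `O'N` -/
theorem cent_two {x : ON} (hx : orderOf x = 2) : Nat.card ↥(centralizer ({x} : Set ON)) = 161280 := by
  have hx2 : x * x = 1 := by rw [← pow_two, ← hx, pow_orderOf_eq_one]
  have hx1 : x ≠ 1 := by
    rintro rfl
    rw [orderOf_one] at hx
    omega
  rw [← card_cent_isConj (Cfsg.Agent.KFacts.ON.OneClass.one_class hx2 hx1), Cfsg.Agent.KFacts.ON.Cent.card_cent]

/-- an element of order 7 commuting with `f` commutes with `v` -/
theorem comm_v {y : ON} (hy : y ^ 7 = 1) (h : y * on .f = on .f * y) : y * v = v * y := by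
  have hK : y ∈ Cfsg.Agent.ONType.TupK.K0 := Cfsg.Agent.KFacts.ON.Struct.mem_K0.2 h
  have h1 : y ^ 2 * v * (y ^ 2)⁻¹ = v := by
    have e : y ^ 2 * v * (y ^ 2)⁻¹ = y * (y * v * y⁻¹) * y⁻¹ := by rw [pow_two]; group
    rw [e]
    rcases Cfsg.Agent.KFacts.ON.Struct.conj_v hK with h2 | h2
    · rw [h2, h2]
    · rw [h2]
      have e2 : y * v⁻¹ * y⁻¹ = (y * v * y⁻¹)⁻¹ := by group
      rw [e2, h2, inv_inv]
  have h2 : Commute (y ^ 2) v := mul_inv_eq_iff_eq_mul.1 h1
  have h3 : Commute ((y ^ 2) ^ 4) v := h2.pow_left 4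
  have h4 : (y ^ 2) ^ 4 = y := by
    rw [← pow_mul]
    show y ^ (7 + 1) = y
    rw [pow_succ, hy, one_mul]
  rw [h4] at h3
  exact h3

/-- an element of order 7 commuting with `f` commutes with no element of order 11, 19, 31 -/
theorem not_dvd_seven {y : ON} (hy : orderOf y = 7) (h : y * on .f = on .f * y) {r : ℕ} (hr : r.Prime)
    (hr4 : r % 4 = 3) (hrs : ¬ r * r ∣ 460815505920) (hrc : ¬ r ∣ 161280) :
    ¬ r ∣ Nat.card ↥(centralizer ({y} : Set ON)) := by
  intro hd
  have hfin := Cfsg.Agent.KFacts.ON.OneClass.finite_ON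
  have hy7 : y ^ 7 = 1 := by rw [← hy]; exact pow_orderOf_eq_one y
  have hy1 : y ≠ 1 := by rintro rfl; rw [orderOf_one] at hy; norm_num at hy
  have h4 := comm_v hy7 h
  have hs := Cfsg.Agent.CpAutON.Seven.solvable (fun K _ _ hK => Cfsg.Agent.S0205.result hK) hy
  have hdc : Nat.card (centralizer ({y} : Set ON)) ∣ 460815505920 := hcard ▸ card_subgroup_dvd_card _
  have hvm : v ∈ centralizer ({y} : Set ON) := mem_centralizer_singleton_iff.2 h4.symm
  have hv4 : (⟨v, hvm⟩ : centralizer ({y} : Set ON)) ^ 4 = 1 := Subtype.ext Cfsg.Agent.CpAutON.Codes.v_four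
  obtain ⟨z, hz, hzv⟩ := exists_comm_sq hs hr hr4 hd (fun h => hrs (h.trans hdc)) (fun R hR => by
    have h1 : IsPGroup 2 ↥(R.map (centralizer ({y} : Set ON)).subtype) := hR.map _
    have h2 := Cfsg.Agent.CpAutON.Seven.cyclic hy7 hy1 _ h1 (by
      rintro _ ⟨r, -, rfl⟩
      exact mem_centralizer_singleton_iff.1 r.2)
    exact isCyclic_of_injective (R.equivMapOfInjective _ (subtype_injective _)).toMonoidHom
      (MulEquiv.injective _)) hv4
  have h5 : (z : ON) * on .f = on .f * z := by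
    have h6 := congrArg (fun c : centralizer ({y} : Set ON) => (c : ON)) hzv
    simp only [Subgroup.coe_mul, SubmonoidClass.coe_pow] at h6
    rw [pow_two, vv] at h6
    exact h6
  have h6 : orderOf (⟨(z : ON), mem_centralizer_singleton_iff.2 h5⟩ : centralizer ({on .f} : Set ON)) = r := by
    rw [Subgroup.orderOf_mk, Subgroup.orderOf_coe]
    exact hz
  apply hrc
  rw [← Cfsg.Agent.KFacts.ON.Cent.card_cent, ← h6]
  exact _root_.orderOf_dvd_natCard _

theorem noDvd {r : ℕ} (hr : r.Prime) (hr4 : r % 4 = 3) (hrs : ¬ r * r ∣ 460815505920) (hrc : ¬ r ∣ 161280) :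
    NoDvd r 343 ON := by
  have hfin := Cfsg.Agent.KFacts.ON.OneClass.finite_ON
  have hx : orderOf Cfsg.Agent.CpAutON.Seven.x0 = 7 := by
    have : Fact (Nat.Prime 7) := ⟨by norm_num⟩
    exact orderOf_eq_prime Cfsg.Agent.CpAutON.Seven.x0_pow Cfsg.Agent.CpAutON.Seven.x0_ne
  have h := noDvd_of_full (G := ON) (p := 7) (k := 3) (r := r) (by norm_num) hr (by rw [hcard]; norm_num) hx
    (not_dvd_seven hx (Cfsg.Agent.KFacts.ON.Struct.mem_K0.1 Cfsg.Agent.CpAutON.Seven.x0_mem) hr hr4 hrs hrc)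
  norm_num at h
  exact h

theorem noTwo {r : ℕ} (hr : ¬ r ∣ 161280) : NoComm r 2 ON :=
  NoComm.symm (noComm_of_not_dvd fun t ht hpd => hr (by rwa [cent_two ht] at hpd))

/-- the centralizers of the elements of order 31 -/
theorem chk31' : ∀ q ∈ (List.range 1716).filter (fun q => q ∣ 29033235), ¬ 343 ∣ 29033235 / q →
    ∀ e ∈ [5, 10, 15, 30], 29033235 / q * e ∣ 14865016320 →
    14865016320 / (29033235 / q * e) % 31 = 1 → 29033235 / q ≤ 16929 := by
  decide +kernel

theorem chk31 {m e : ℕ} (hm : m ∣ 29033235) (h343 : ¬ 343 ∣ m) (he : e ∣ 30) (h5 : 5 ∣ e)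
    (hd : m * e ∣ 14865016320) (hmod : 14865016320 / (m * e) % 31 = 1) : m ≤ 16929 := by
  by_contra hlt
  push Not at hlt
  obtain ⟨q, hq⟩ := hm
  have hm0 : 0 < m := by omega
  have hq0 : 0 < q := by
    rcases Nat.eq_zero_or_pos q with h | h
    · rw [h] at hq; omega
    · exact h
  have hqm : 29033235 / q = m := by rw [hq]; exact Nat.mul_div_cancel _ hq0
  have hq1 : q < 1716 := by
    by_contra h
    push Not at h
    have : 16929 * 1716 ≤ m * q := Nat.mul_le_mul hlt.le h
    omega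
  have he4 : e ∈ [5, 10, 15, 30] := by
    obtain ⟨k, rfl⟩ := h5
    have hk : k ∣ 6 := Nat.dvd_of_mul_dvd_mul_left (by norm_num : 0 < 5) (by simpa only [_root_.Nat.reduceMul] using he)
    have hk6 : k ≤ 6 := Nat.le_of_dvd (by norm_num) hk
    interval_cases k <;> revert hk <;> decide
  have hqL : q ∈ (List.range 1716).filter (fun q => q ∣ 29033235) := by
    rw [List.mem_filter]
    exact ⟨List.mem_range.2 hq1, decide_eq_true (Dvd.intro_left m hq.symm)⟩
  have := chk31' q hqL (by rw [hqm]; exact h343) e he4 (by rw [hqm]; exact hd) (by rw [hqm]; exact hmod)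
  rw [hqm] at this
  omega

theorem card31 {x : ON} (hx : orderOf x = 31) : Nat.card ↥(centralizer ({x} : Set ON)) ≤ 524799 := by
  have hfin := Cfsg.Agent.KFacts.ON.OneClass.finite_ON
  obtain ⟨x', y, hx', hy⟩ := Cfsg.Agent.H968.TwoON.exists_xy
  have hsq : ¬ 31 * 31 ∣ Nat.card ON := by rw [hcard]; norm_num
  rw [card_cent_prime_eq (p := 31) (by norm_num) hsq hx' hx]
  obtain ⟨e, he, h5, hd, hmod⟩ := arithK (k := 5) (m := 2) (by norm_num) hx' hsq (by norm_num)
    (mul_inv_eq_iff_eq_mul.2 hy) (by norm_num) (by norm_num)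
  have h343 := noDvd (r := 31) (by norm_num) (by norm_num) (by norm_num) (by norm_num) x' hx'
  have h2 := not_dvd_of_noComm Nat.prime_two (noTwo (r := 31) (by norm_num)) hx'
  have h31 : 31 ∣ Nat.card ↥(centralizer ({x'} : Set ON)) := by
    have h6 : orderOf (⟨x', mem_centralizer_singleton_iff.2 rfl⟩ : centralizer ({x'} : Set ON)) = 31 := by
      rw [Subgroup.orderOf_mk]
      exact hx'
    rw [← h6]
    exact _root_.orderOf_dvd_natCard _
  obtain ⟨m, hm⟩ := h31
  rw [hm] at hd hmod h343 h2 ⊢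
  rw [hcard] at hd hmod
  have hm2 : ¬ 2 ∣ m := fun h => h2 (h.trans (dvd_mul_left _ _))
  have hm343 : ¬ 343 ∣ m := fun h => h343 (h.trans (dvd_mul_left _ _))
  have hd' : m * e ∣ 14865016320 := by
    have h7 : 31 * (m * e) ∣ 31 * 14865016320 := by rw [← mul_assoc]; exact hd
    exact Nat.dvd_of_mul_dvd_mul_left (by norm_num) h7
  have hmd : m ∣ 29033235 := by
    have h7 : m ∣ 2 ^ 9 * 29033235 := by
      refine (dvd_mul_right m e).trans (hd'.trans ?_)
      norm_num
    exact (((Nat.Prime.coprime_iff_not_dvd Nat.prime_two).2 hm2).symm.pow_right 9).dvd_of_dvd_mul_left h7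
  have hmod' : 14865016320 / (m * e) % 31 = 1 := by
    have h7 : 460815505920 / (31 * m * e) = 14865016320 / (m * e) := by
      rw [show 460815505920 = 31 * 14865016320 by norm_num, mul_assoc]
      exact Nat.mul_div_mul_left _ _ (by norm_num)
    rw [h7] at hmod
    exact hmod
  have := chk31 hmd hm343 he h5 hd' hmod'
  (clear * - this; omega)

end ON

theorem small_ON' : NSm.Small Spor.ON := by
  have hc := ON.hcard
  have hf := Cfsg.Agent.KFacts.ON.OneClass.finite_ON
  have hs : IsSimpleGroup Spor.ON := Cfsg.Agent.S1699.result.1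
  have h2 : SmallAt 2 Spor.ON := smallAt_of_le (b := 161280) Nat.prime_two (by rw [hc]; norm_num) fun x hx =>
    (ON.cent_two hx).le
  refine small_of_chk' 9 900030285 1326 (by rw [hc]; norm_num) (by norm_num) (by norm_num) [31]
    [11, 19] [(11, 343), (19, 343)] [1, 3, 5, 7, 9, 11, 15, 19, 21, 27, 31, 33, 35, 45, 49, 55, 57, 63, 77, 81, 93, 95, 99, 105, 133, 135, 147, 155, 165, 171, 189, 209, 217, 231, 245, 279, 285, 297, 315, 341, 343, 385, 399, 405, 441, 465, 495, 513, 539, 567, 589, 627, 651, 665, 693, 735, 837, 855, 891, 931, 945, 1023, 1029, 1045, 1085, 1155, 1197, 1323]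
    ?_ ?_ ?_ ?_ h2 (by decide +kernel)
  · decide +kernel
  · intro r hr
    rw [List.mem_singleton] at hr
    subst hr
    exact smallAt_of_le (b := 524799) (by norm_num) (by rw [hc]; norm_num) fun x hx => ON.card31 hx
  · intro r hr
    simp only [List.mem_cons, List.not_mem_nil, or_false] at hr
    rcases hr with rfl | rfl
    · exact ⟨by norm_num, by norm_num, by norm_num, ON.noTwo (by norm_num)⟩
    · exact ⟨by norm_num, by norm_num, by norm_num, ON.noTwo (by norm_num)⟩
  · intro p hp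
    simp only [List.mem_cons, List.not_mem_nil, or_false] at hp
    rcases hp with rfl | rfl
    · exact ⟨by norm_num, ON.noDvd (by norm_num) (by norm_num) (by norm_num) (by norm_num)⟩
    · exact ⟨by norm_num, ON.noDvd (by norm_num) (by norm_num) (by norm_num) (by norm_num)⟩

theorem small_ON {G : Type u} [Group G] [Finite G] (h : Cfsg.Spor.IsoON G)
    (_hI : ∀ (H : Type u) [Group H] [Finite H], IsSimpleGroup H → ¬ IsMulCommutative H → Nat.card H < Nat.card G →
      NSm.Small H) : NSm.Small G := by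
  obtain ⟨e⟩ := h
  exact small_ON'.congr e.symm

end Cfsg.Agent.H805.NilSp
end
end
end
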